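import Mathlib

/-!
Small facts about Sylow subgroups and normal subgroups used by several structure statements.
-/

set_option autoImplicit false

namespace Cfsg.Agent.FGBasics

variable {G : Type*} [Group G] [Finite G] {p : ℕ} [Fact p.Prime]

/-- The intersection of a Sylow subgroup with a normal subgroup is a Sylow subgroup of the latter. -/
lemma exists_sylow_inf (R : Sylow p G) (T : Subgroup G) [T.Normal] :
    ∃ P : Sylow p T, (P : Subgroup T).map T.subtype = (R : Subgroup G) ⊓ T := by
  have hp : IsPGroup p ((R : Subgroup G).subgroupOf T) :=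
    R.isPGroup'.comap_of_injective T.subtype Subtype.val_injective
  have hidx : ¬ p ∣ ((R : Subgroup G).subgroupOf T).index := by
    intro h
    refine R.not_dvd_index (h.trans ?_)
    show (R : Subgroup G).relIndex T ∣ _
    have h1 := Subgroup.relIndex_mul_relIndex ((R : Subgroup G) ⊓ T) T ((R : Subgroup G) ⊔ T)
      inf_le_right le_sup_right
    have h2 := Subgroup.relIndex_mul_relIndex ((R : Subgroup G) ⊓ T) (R : Subgroup G)
      ((R : Subgroup G) ⊔ T) inf_le_left le_sup_left
    rw [Subgroup.relIndex_sup_right, Subgroup.inf_relIndex_right] at h1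
    rw [Subgroup.inf_relIndex_left, ← h1, mul_comm ((R : Subgroup G).relIndex T)] at h2
    rw [← mul_left_cancel₀ (show (T.subgroupOf (R : Subgroup G)).index ≠ 0 from Subgroup.FiniteIndex.index_ne_zero) h2]
    exact Subgroup.relIndex_dvd_index_of_le le_sup_left
  refine ⟨hp.toSylow hidx, ?_⟩
  rw [IsPGroup.toSylow_coe, Subgroup.subgroupOf_map_subtype]

/-- Frattini argument with the intersection of a Sylow subgroup and a normal subgroup. -/
lemma normalizer_inf_sup_eq_top (R : Sylow p G) (T : Subgroup G) [T.Normal] :
    Subgroup.normalizer (((R : Subgroup G) ⊓ T : Subgroup G) : Set G) ⊔ T = ⊤ := by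
  obtain ⟨P, hP⟩ := exists_sylow_inf R T
  rw [← hP]
  exact Sylow.normalizer_sup_eq_top P

omit [Finite G] [Fact p.Prime] in
/-- A Sylow subgroup normalizes its intersection with a normal subgroup. -/
lemma le_normalizer_inf (R : Sylow p G) (T : Subgroup G) [T.Normal] :
    (R : Subgroup G) ≤ Subgroup.normalizer (((R : Subgroup G) ⊓ T : Subgroup G) : Set G) := by
  intro g hg
  rw [Subgroup.mem_normalizer_iff_map_conj_eq,
    Subgroup.map_inf _ _ _ (MulAut.conj g).injective,
    Subgroup.mem_normalizer_iff_map_conj_eq.1 (Subgroup.le_normalizer hg),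
    Subgroup.mem_normalizer_iff_map_conj_eq.1
      (show g ∈ Subgroup.normalizer (T : Set G) by rw [Subgroup.normalizer_eq_top]; trivial)]

end Cfsg.Agent.FGBasics
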