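import Cfsg.Agent.Lib.Solvable.Hall
import Mathlib

/-!
Invariant Hall subgroups of solvable groups under coprime action: existence, conjugacy under the fixed
points, and containment of invariant subgroups.
-/

set_option autoImplicit false

namespace Cfsg.Agent.InvariantHall

open scoped Pointwise
open Cfsg.Agent Cfsg.Agent.SolvBasic

universe u

variable {X : Type u} [Group X] [Finite X] {A G : Subgroup X} {m n : ℕ}

/-- Existence and conjugacy. -/
theorem exists_and_conj (hAG : A ≤ Subgroup.normalizer (G : Set X))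
    (hcop : (Nat.card A).Coprime (Nat.card G)) (hsolv : Group.IsSolvable G)
    (hG : Nat.card G = m * n) (hmn : m.Coprime n) :
    (∃ H : Subgroup X, H ≤ G ∧ Nat.card H = m ∧ A ≤ Subgroup.normalizer (H : Set X)) ∧
      ∀ H K : Subgroup X, H ≤ G → Nat.card H = m → A ≤ Subgroup.normalizer (H : Set X) →
        K ≤ G → Nat.card K = m → A ≤ Subgroup.normalizer (K : Set X) →
        ∃ c ∈ G ⊓ Subgroup.centralizer (A : Set X), MulAut.conj c • H = K := by
  haveI := hsolv
  letI : MulAction X (Subgroup X) := MulAction.compHom (Subgroup X) MulAut.conj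
  set Y : Set (Subgroup X) := {S | S ≤ G ∧ Nat.card S = m}
  have hsmul : ∀ (g : X) (S : Subgroup X), g • S = MulAut.conj g • S := fun _ _ => rfl
  have hmem : ∀ g ∈ Subgroup.normalizer (G : Set X), ∀ S ∈ Y, g • S ∈ Y := by
    intro g hg S hS
    refine ⟨?_, by rw [hsmul, card_conjSmul, hS.2]⟩
    rw [hsmul, ← conjSmul_eq_self_of_mem_normalizer hg]
    exact Subgroup.pointwise_smul_le_pointwise_smul_iff.2 hS.1
  obtain ⟨H₀, hH₀⟩ := HallSolv.exists_hall (G := ↥G) hG hmn
  have hne : Y.Nonempty := ⟨H₀.map G.subtype, Subgroup.map_subtype_le _,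
    by rw [Subgroup.card_map_of_injective G.subtype_injective, hH₀]⟩
  have htr : ∀ S ∈ Y, ∀ T ∈ Y, ∃ k ∈ G, k • S = T := by
    rintro S ⟨hS, hSc⟩ T ⟨hT, hTc⟩
    obtain ⟨k, hk⟩ := HallSolv.hall_conj (G := ↥G) hG hmn (H := S.subgroupOf G) (K := T.subgroupOf G)
      (by rw [Nat.card_congr (Subgroup.subgroupOfEquivOfLe hS).toEquiv, hSc])
      (by rw [Nat.card_congr (Subgroup.subgroupOfEquivOfLe hT).toEquiv, hTc])
    refine ⟨k, k.2, ?_⟩
    have h := congrArg (Subgroup.map G.subtype) hk
    rw [map_subtype_conjSmul, Subgroup.map_subgroupOf_eq_of_le hS, Subgroup.map_subgroupOf_eq_of_le hT] at h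
    exact h
  obtain ⟨h1, h2⟩ := SchurZ.glauberman hAG hcop (Or.inr hsolv) Y hne (fun a ha => hmem a (hAG ha))
    (fun k hk => hmem k (Subgroup.le_normalizer hk)) htr
  constructor
  · obtain ⟨S, hS, hfix⟩ := h1
    exact ⟨S, hS.1, hS.2, fun a ha => mem_normalizer_iff_conjSmul.2 (hfix a ha)⟩
  · intro H K hH hHc hHA hK hKc hKA
    exact h2 H ⟨hH, hHc⟩ K ⟨hK, hKc⟩ (fun a ha => conjSmul_eq_self_of_mem_normalizer (hHA ha))
      (fun a ha => conjSmul_eq_self_of_mem_normalizer (hKA ha))

omit [Finite X] in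
/-- Conjugation by a fixed point preserves invariance. -/
lemma le_normalizer_conj {c : X} (hc : c ∈ Subgroup.centralizer (A : Set X)) {H : Subgroup X}
    (hH : A ≤ Subgroup.normalizer (H : Set X)) :
    A ≤ Subgroup.normalizer ((MulAut.conj c • H : Subgroup X) : Set X) := by
  intro a ha
  rw [mem_normalizer_iff_conjSmul, conjSmul_conjSmul,
    show a * c = c * a from Subgroup.mem_centralizer_iff.1 hc a ha, ← conjSmul_conjSmul,
    conjSmul_eq_self_of_mem_normalizer (hH ha)]

/-- The step from the quotient by an invariant normal subgroup `N`, given the invariant preimage `L`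
of a Hall subgroup of the quotient. -/
theorem step (hAG : A ≤ Subgroup.normalizer (G : Set X))
    (hcop : (Nat.card A).Coprime (Nat.card G)) (hsolv : Group.IsSolvable G)
    {N L U : Subgroup X} [N.Normal] (hmn : m.Coprime n) (hNn : Nat.card N ∣ n)
    (hLG : L ≤ G) (hNL : N ≤ L) (hUL : U ≤ L) (hL : Nat.card L = Nat.card N * m)
    (hAL : A ≤ Subgroup.normalizer (L : Set X)) (hU : (Nat.card U).Coprime n)
    (hUA : A ≤ Subgroup.normalizer (U : Set X)) :
    ∃ H : Subgroup X, H ≤ G ∧ Nat.card H = m ∧ A ≤ Subgroup.normalizer (H : Set X) ∧ U ≤ H := by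
  haveI := hsolv
  have hNtop : ∀ S : Subgroup X, S ≤ Subgroup.normalizer (N : Set X) := fun S => by
    rw [Subgroup.normalizer_eq_top]; exact le_top
  have hNm : (Nat.card N).Coprime m := Nat.Coprime.coprime_dvd_left hNn hmn.symm
  obtain ⟨H, hHL, hHc, hHA⟩ := (exists_and_conj (m := m) (n := Nat.card N) hAL
    (hcop.coprime_dvd_right (Subgroup.card_dvd_of_le hLG)) (isSolvable_of_le hLG)
    (by rw [hL, mul_comm]) hNm.symm).1
  have hNH : N ⊓ H = ⊥ :=
    (Subgroup.disjoint_of_coprime_natCard (by rw [hHc]; exact hNm)).eq_bot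
  have hNHL : N ⊔ H = L := Subgroup.eq_of_le_of_card_ge (sup_le hNL hHL)
    (by rw [card_sup_of_inf_eq_bot (hNtop H) hNH, hL, hHc])
  set W := N ⊔ U with hW
  have hWL : W ≤ L := sup_le hNL hUL
  have hAW : A ≤ Subgroup.normalizer (W : Set X) := by
    intro a ha
    rw [mem_normalizer_iff_conjSmul, hW, Subgroup.smul_sup,
      conjSmul_eq_self_of_mem_normalizer (hNtop A ha), conjSmul_eq_self_of_mem_normalizer (hUA ha)]
  have hNUc : (Nat.card N).Coprime (Nat.card U) := Nat.Coprime.coprime_dvd_left hNn hU.symm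
  have hNU : N ⊓ U = ⊥ := (Subgroup.disjoint_of_coprime_natCard hNUc).eq_bot
  have hWc : Nat.card W = Nat.card U * Nat.card N := by
    rw [card_sup_of_inf_eq_bot (hNtop U) hNU, mul_comm]
  set H₁ := H ⊓ W with hH₁
  have hH₁A : A ≤ Subgroup.normalizer (H₁ : Set X) :=
    (le_inf hHA hAW).trans Subgroup.inf_normalizer_le_normalizer_inf
  have hsup1 : N ⊔ H₁ = W := by
    refine le_antisymm (sup_le le_sup_left inf_le_right) fun x hx => ?_
    obtain ⟨a, ha, b, hb, rfl⟩ := (mem_sup_iff_of_le_normalizer (hNtop H)).1 (hNHL.ge (hWL hx))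
    refine mul_mem (Subgroup.mem_sup_left ha) (Subgroup.mem_sup_right ⟨hb, ?_⟩)
    simpa using mul_mem (inv_mem (Subgroup.mem_sup_left (T := U) ha)) hx
  have hH₁c : Nat.card H₁ = Nat.card U := by
    have h1 := card_sup_of_inf_eq_bot (hNtop H₁)
      (le_bot_iff.1 ((inf_le_inf_left N (inf_le_left : H₁ ≤ H)).trans hNH.le))
    rw [hsup1, hWc, mul_comm] at h1
    exact (Nat.eq_of_mul_eq_mul_left Nat.card_pos h1).symm
  obtain ⟨c, hc, hcU⟩ := (exists_and_conj (m := Nat.card U) (n := Nat.card N) hAW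
    (hcop.coprime_dvd_right (Subgroup.card_dvd_of_le (hWL.trans hLG))) (isSolvable_of_le (hWL.trans hLG))
    hWc hNUc.symm).2 H₁ U inf_le_right hH₁c hH₁A le_sup_right rfl hUA
  refine ⟨MulAut.conj c • H, ?_, by rw [card_conjSmul, hHc], le_normalizer_conj hc.2 hHA, ?_⟩
  · rw [← conjSmul_eq_self_of_mem_normalizer (Subgroup.le_normalizer (hLG (hWL hc.1)))]
    exact Subgroup.pointwise_smul_le_pointwise_smul_iff.2 (hHL.trans hLG)
  · rw [← hcU]
    exact Subgroup.pointwise_smul_le_pointwise_smul_iff.2 inf_le_left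

/-- An invariant subgroup of order prime to `n` lies in an invariant subgroup of order `m`. -/
theorem exists_ge : ∀ k : ℕ, ∀ (X : Type u) [Group X] [Finite X] (A G U : Subgroup X),
    Nat.card G = k → A ≤ Subgroup.normalizer (G : Set X) →
    (Nat.card A).Coprime (Nat.card G) → Group.IsSolvable G →
    ∀ m n : ℕ, Nat.card G = m * n → m.Coprime n → U ≤ G → (Nat.card U).Coprime n →
      A ≤ Subgroup.normalizer (U : Set X) →
      ∃ H : Subgroup X, H ≤ G ∧ Nat.card H = m ∧ A ≤ Subgroup.normalizer (H : Set X) ∧ U ≤ H := by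
  intro k
  induction k using Nat.strong_induction_on with
  | _ k ih =>
    intro X _ _ A G U hk hAG hcop hsolv m n hG hmn hUG hU hUA
    classical
    by_cases hG1 : G = ⊥
    · subst hG1
      rw [Subgroup.card_bot] at hG
      refine ⟨⊥, le_rfl, ?_, fun a _ => by rw [Subgroup.normalizer_eq_top]; trivial, hUG⟩
      rw [Subgroup.card_bot]
      exact (Nat.eq_one_of_mul_eq_one_right hG.symm).symm
    -- work inside `W = G ⊔ A`
    set W := G ⊔ A with hW
    have hWn : W ≤ Subgroup.normalizer (G : Set X) := sup_le Subgroup.le_normalizer hAG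
    have hUW : U ≤ W := hUG.trans le_sup_left
    haveI hGn : (G.subgroupOf W).Normal := Subgroup.normal_subgroupOf_of_le_normalizer hWn
    haveI : Group.IsSolvable ↥(G.subgroupOf W) :=
      Group.isSolvable_of_isSolvable_injective
        (f := (Subgroup.subgroupOfEquivOfLe (le_sup_left : G ≤ W)).toMonoidHom)
        (Subgroup.subgroupOfEquivOfLe (le_sup_left : G ≤ W)).injective
    obtain ⟨M, r, hr, hMn, hM, hMG, -, -, hMr, -⟩ := exists_minimal_normal_abelian hGn (by
      rwa [Ne, Subgroup.subgroupOf_eq_bot, disjoint_iff, inf_eq_left.2 (le_sup_left : G ≤ W)])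
    haveI := hMn
    haveI := Fact.mk hr
    set f := QuotientGroup.mk' M with hf
    have hfs : Function.Surjective f := QuotientGroup.mk'_surjective M
    set G' := (G.subgroupOf W).map f with hG'
    set A' := (A.subgroupOf W).map f with hA'
    set U' := (U.subgroupOf W).map f with hU'
    have hGc : Nat.card ↥(G.subgroupOf W) = Nat.card G :=
      Nat.card_congr (Subgroup.subgroupOfEquivOfLe (le_sup_left : G ≤ W)).toEquiv
    have hcomapG : G'.comap f = G.subgroupOf W := by
      rw [hG', Subgroup.comap_map_eq, hf, QuotientGroup.ker_mk', sup_eq_left.2 hMG]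
    have hG'c : Nat.card M * Nat.card G' = Nat.card G := by
      rw [← HallSolv.card_comap_mk M G', ← hf, hcomapG, hGc]
    have hMcard : 1 < Nat.card M := by
      rw [Subgroup.one_lt_card_iff_ne_bot]; exact hM
    obtain ⟨a, ha⟩ := IsPGroup.iff_card.1 hMr
    have hMdvd : Nat.card M ∣ m * n := hG ▸ hG'c ▸ Dvd.intro _ rfl
    have ha0 : a ≠ 0 := by rintro rfl; rw [pow_zero] at ha; omega
    -- arithmetic
    obtain ⟨m', n', hm', hG'mn, hm'n', hU'c⟩ : ∃ m' n' : ℕ,
        ((Nat.card M ∣ m ∧ m = Nat.card M * m' ∧ n = n') ∨ (Nat.card M ∣ n ∧ m = m' ∧ n = Nat.card M * n')) ∧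
        Nat.card G' = m' * n' ∧ m'.Coprime n' ∧ n' ∣ n := by
      have hpos : 0 < Nat.card M := by omega
      by_cases hrn : r ∣ n
      · have hrm : ¬ r ∣ m := fun h => hr.not_dvd_one (hmn ▸ Nat.dvd_gcd h hrn)
        have hMn' : Nat.card M ∣ n := by
          rw [ha] at hMdvd ⊢
          exact (Nat.Coprime.pow_left a (hr.coprime_iff_not_dvd.2 hrm)).dvd_of_dvd_mul_left hMdvd
        obtain ⟨n', rfl⟩ := hMn'
        refine ⟨m, n', Or.inr ⟨Dvd.intro _ rfl, rfl, rfl⟩, ?_, hmn.coprime_dvd_right (Dvd.intro_left _ rfl),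
          Dvd.intro_left _ rfl⟩
        refine Nat.eq_of_mul_eq_mul_left hpos ?_
        rw [hG'c, hG]; ring
      · have hMm : Nat.card M ∣ m := by
          rw [ha] at hMdvd ⊢
          exact (Nat.Coprime.pow_left a (hr.coprime_iff_not_dvd.2 hrn)).dvd_of_dvd_mul_right hMdvd
        obtain ⟨m', rfl⟩ := hMm
        refine ⟨m', n, Or.inl ⟨Dvd.intro _ rfl, rfl, rfl⟩, ?_, hmn.coprime_dvd_left (Dvd.intro_left _ rfl),
          dvd_refl _⟩
        refine Nat.eq_of_mul_eq_mul_left hpos ?_
        rw [hG'c, hG]; ring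
    have hmapn : ∀ S T : Subgroup X, S ≤ Subgroup.normalizer (T : Set X) →
        (S.subgroupOf W).map f ≤ Subgroup.normalizer (((T.subgroupOf W).map f : Subgroup _) : Set _) := by
      intro S T hST
      rintro _ ⟨s, hs, rfl⟩
      refine Subgroup.le_normalizer_map f ⟨s, ?_, rfl⟩
      rw [SetLike.mem_coe, Subgroup.mem_normalizer_iff]
      intro z
      exact Subgroup.mem_normalizer_iff.1 (hST hs) (z : X)
    have hlt : Nat.card G' < k := by
      rw [← hk, ← hG'c]
      exact lt_mul_of_one_lt_left Nat.card_pos hMcard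
    obtain ⟨H', hH'G, hH'c, hH'A, hU'H⟩ := ih _ hlt (↥W ⧸ M) A' G' U' rfl (hmapn A G hAG)
      (Nat.Coprime.coprime_dvd_left ((Subgroup.card_map_dvd _ _).trans
        (Nat.card_congr (Subgroup.subgroupOfEquivOfLe (le_sup_right : A ≤ W)).toEquiv).dvd)
        (hcop.coprime_dvd_right (Dvd.intro_left _ hG'c)))
      (Group.isSolvable_of_surjective (f := f.subgroupMap (G.subgroupOf W)) (f.subgroupMap_surjective _))
      m' n' hG'mn hm'n' (Subgroup.map_mono (Subgroup.comap_mono hUG))
      (Nat.Coprime.coprime_dvd_left ((Subgroup.card_map_dvd _ _).trans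
        (Nat.card_congr (Subgroup.subgroupOfEquivOfLe hUW).toEquiv).dvd) (hU.coprime_dvd_right hU'c))
      (hmapn A U hUA)
    set L := (H'.comap f).map W.subtype with hL
    have hMH : M ≤ H'.comap f := fun x hx => by
      rw [Subgroup.mem_comap, hf, QuotientGroup.mk'_apply, (QuotientGroup.eq_one_iff x).2 hx]
      exact one_mem _
    have hLG : L ≤ G := by
      rintro _ ⟨x, hx, rfl⟩
      exact (hcomapG.le (hH'G hx) : x ∈ G.subgroupOf W)
    have hAL : A ≤ Subgroup.normalizer (L : Set X) := by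
      intro a' ha'
      have h1 : (⟨a', Subgroup.mem_sup_right ha'⟩ : ↥W) ∈ Subgroup.normalizer ((H'.comap f : Subgroup ↥W) : Set ↥W) := by
        rw [← Subgroup.comap_normalizer_eq_of_surjective _ hfs]
        exact hH'A ⟨_, ha', rfl⟩
      exact Subgroup.le_normalizer_map W.subtype ⟨_, h1, rfl⟩
    have hUL : U ≤ L := fun x hx => ⟨⟨x, hUW hx⟩, hU'H ⟨_, hx, rfl⟩, rfl⟩
    have hLc : Nat.card L = Nat.card M * m' := by
      rw [hL, Subgroup.card_map_of_injective W.subtype_injective, HallSolv.card_comap_mk, hH'c]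
    rcases hm' with ⟨-, hm1, -⟩ | ⟨hMn', rfl, -⟩
    · exact ⟨L, hLG, by rw [hLc, hm1], hAL, hUL⟩
    · -- complement step inside `W`
      haveI : Group.IsSolvable ↥(G.subgroupOf W) := inferInstance
      have hAWn : A.subgroupOf W ≤ Subgroup.normalizer ((G.subgroupOf W : Subgroup ↥W) : Set ↥W) := by
        rw [Subgroup.normalizer_eq_top]; exact le_top
      have hsubn : ∀ T : Subgroup X, A ≤ Subgroup.normalizer (T : Set X) →
          A.subgroupOf W ≤ Subgroup.normalizer ((T.subgroupOf W : Subgroup ↥W) : Set ↥W) := by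
        intro T hT s hs
        rw [Subgroup.mem_normalizer_iff]
        intro z
        exact Subgroup.mem_normalizer_iff.1 (hT hs) (z : X)
      have hAH : A.subgroupOf W ≤ Subgroup.normalizer ((H'.comap f : Subgroup ↥W) : Set ↥W) := by
        intro s hs
        rw [← Subgroup.comap_normalizer_eq_of_surjective _ hfs]
        exact hH'A ⟨_, hs, rfl⟩
      obtain ⟨H, hHG, hHc, hHA, hUH⟩ := step (m := m) (n := n) hAWn
        (by rw [hGc, Nat.card_congr (Subgroup.subgroupOfEquivOfLe (le_sup_right : A ≤ W)).toEquiv]; exact hcop)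
        inferInstance (N := M) (L := H'.comap f) (U := U.subgroupOf W) hmn hMn'
        (le_trans (Subgroup.comap_mono hH'G) hcomapG.le) hMH
        (fun x hx => hU'H ⟨x, hx, rfl⟩)
        (by rw [HallSolv.card_comap_mk, hH'c]) hAH
        (by rw [Nat.card_congr (Subgroup.subgroupOfEquivOfLe hUW).toEquiv]; exact hU) (hsubn U hUA)
      refine ⟨H.map W.subtype, ?_, by rw [Subgroup.card_map_of_injective W.subtype_injective, hHc], ?_,
        fun x hx => ⟨⟨x, hUW hx⟩, hUH hx, rfl⟩⟩
      · rintro _ ⟨x, hx, rfl⟩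
        exact hHG hx
      · intro a' ha'
        exact Subgroup.le_normalizer_map W.subtype ⟨⟨a', Subgroup.mem_sup_right ha'⟩, hHA ha', rfl⟩

end Cfsg.Agent.InvariantHall
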