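import Cfsg.Prelude.Def_Transfer
import Cfsg.Agent.Lib.Transfer.PGroup
import Cfsg.Agent.Lib.OddOrder.Nilpotent
import Mathlib

/-!
Orders of extraspecial groups and of their abelian subgroups.
-/

set_option autoImplicit false

namespace Cfsg.Agent.FGBasics.XS

open scoped commutatorElement

variable {Q : Type*} [Group Q] [Finite Q] {p : ℕ} [Fact p.Prime]

theorem centralizer_index_le (h : Cfsg.IsExtraspecial p Q) (x : Q) :
    (Subgroup.centralizer {x}).index ≤ p := by
  obtain ⟨h1, -, -⟩ := PGroupBasics.special_center h.1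
  let f : Q →* ↥(Subgroup.center Q) :=
  { toFun := fun y => ⟨⁅x, y⁆, h1 x y⟩
    map_one' := Subtype.ext (by simp)
    map_mul' := fun a b => Subtype.ext (by
      have e : ⁅x, a * b⁆ = ⁅x, a⁆ * (a * ⁅x, b⁆ * a⁻¹) := by
        simp only [commutatorElement_def]; group
      show ⁅x, a * b⁆ = ⁅x, a⁆ * ⁅x, b⁆
      rw [e, Subgroup.mem_center_iff.1 (h1 x b) a, mul_inv_cancel_right]) }
  have hker : f.ker = Subgroup.centralizer {x} := by
    ext y
    rw [MonoidHom.mem_ker, Subgroup.mem_centralizer_singleton_iff]
    constructor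
    · intro hy
      exact (commutatorElement_eq_one_iff_mul_comm.1 (congrArg Subtype.val hy)).symm
    · intro hy
      exact Subtype.ext (commutatorElement_eq_one_iff_mul_comm.2 hy.symm)
  rw [← hker, Subgroup.index_ker, ← h.2]
  exact Subgroup.card_le_card_group _

theorem rel_le (h : Cfsg.IsExtraspecial p Q) (A : Subgroup Q) : ∀ H : Subgroup Q,
    (Subgroup.centralizer (H : Set Q)).relIndex A ≤ (Subgroup.centralizer (A : Set Q)).relIndex H := by
  intro H
  induction H using WellFoundedLT.induction with
  | ind H ih =>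
    by_cases hHC : H ≤ Subgroup.centralizer (A : Set Q)
    · rw [Subgroup.relIndex_eq_one.2 hHC,
        Subgroup.relIndex_eq_one.2 (Subgroup.le_centralizer_iff.1 hHC)]
    haveI : Group.IsNilpotent ↥H := (h.1.1.to_subgroup H).isNilpotent
    set D := (Subgroup.centralizer (A : Set Q)).subgroupOf H with hD
    obtain ⟨M, hM, hDM⟩ := (eq_top_or_exists_le_coatom D).resolve_left
      (fun ht => hHC (Subgroup.subgroupOf_eq_top.1 ht))
    obtain ⟨x, hx⟩ : ∃ x, x ∉ M := by
      by_contra hc
      push Not at hc
      exact hM.1 ((Subgroup.eq_top_iff' _).2 hc)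
    set M' := M.map H.subtype with hM'
    have hlt : M' < H := lt_of_le_of_ne (Subgroup.map_subtype_le M) fun he => hx (by
      obtain ⟨y, hy, hyx⟩ : (x : Q) ∈ M' := by rw [he]; exact x.2
      exact H.subtype_injective hyx ▸ hy)
    have hMidx : p ≤ M.index := by
      obtain ⟨k, hk⟩ := (h.1.1.to_subgroup H).index M
      rcases k with _ | k
      · exact absurd (Subgroup.index_eq_one.1 (hk.trans (pow_zero p))) hM.1
      · rw [hk]; exact Nat.le_self_pow (Nat.succ_ne_zero k) p
    have hrel : (Subgroup.centralizer (A : Set Q)).relIndex H =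
        (Subgroup.centralizer (A : Set Q)).relIndex M' * M.index := by
      rw [Subgroup.relIndex, ← hD, ← Subgroup.relIndex_mul_index hDM]
      congr 1
      rw [hM', ← Subgroup.relIndex_comap]
      rfl
    have hsup : Subgroup.centralizer (M' : Set Q) ⊓ Subgroup.centralizer {(x : Q)} ≤
        Subgroup.centralizer (H : Set Q) := by
      intro y hy
      have hgen : M ⊔ Subgroup.zpowers x = ⊤ := hM.2 _ (lt_of_le_of_ne le_sup_left fun he =>
        hx (he ▸ Subgroup.mem_sup_right (Subgroup.mem_zpowers x)))
      have hle : H ≤ Subgroup.centralizer {y} := by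
        intro z hz
        have : (⟨z, hz⟩ : ↥H) ∈ (Subgroup.centralizer {y}).subgroupOf H := by
          have h2 : M ⊔ Subgroup.zpowers x ≤ (Subgroup.centralizer {y}).subgroupOf H := by
            refine sup_le (fun m hm => ?_) ((Subgroup.zpowers_le).2 ?_)
            · rw [Subgroup.mem_subgroupOf, Subgroup.mem_centralizer_singleton_iff]
              exact Subgroup.mem_centralizer_iff.1 hy.1 _ ⟨m, hm, rfl⟩
            · rw [Subgroup.mem_subgroupOf, Subgroup.mem_centralizer_singleton_iff]
              exact (Subgroup.mem_centralizer_singleton_iff.1 hy.2).symm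
          exact h2 (hgen ▸ Subgroup.mem_top _)
        exact this
      rw [Subgroup.mem_centralizer_iff]
      exact fun z hz => Subgroup.mem_centralizer_singleton_iff.1 (hle hz)
    calc (Subgroup.centralizer (H : Set Q)).relIndex A
        ≤ (Subgroup.centralizer (M' : Set Q) ⊓ Subgroup.centralizer {(x : Q)}).relIndex A :=
          Subgroup.relIndex_le_of_le_left hsup Subgroup.index_ne_zero_of_finite
      _ ≤ (Subgroup.centralizer (M' : Set Q)).relIndex A * (Subgroup.centralizer {(x : Q)}).relIndex A :=
          Subgroup.relIndex_inf_le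
      _ ≤ (Subgroup.centralizer (A : Set Q)).relIndex M' * p := by
          refine Nat.mul_le_mul (ih M' hlt) ?_
          refine le_trans ?_ (centralizer_index_le h (x : Q))
          rw [← Subgroup.relIndex_top_right]
          exact Subgroup.relIndex_le_of_le_right le_top Subgroup.index_ne_zero_of_finite
      _ ≤ _ := hrel ▸ Nat.mul_le_mul_left _ hMidx

/-- An abelian subgroup equal to its centralizer has order `√(|Q| p)`. -/
theorem card_self_centralizing (h : Cfsg.IsExtraspecial p Q) {A : Subgroup Q}
    (hA : Subgroup.centralizer (A : Set Q) = A) : Nat.card A * Nat.card A = Nat.card Q * p := by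
  have hZA : Subgroup.center Q ≤ A := hA ▸ Subgroup.center_le_centralizer _
  have h1 := rel_le h A ⊤
  have h2 := rel_le h ⊤ A
  rw [Subgroup.coe_top, Subgroup.centralizer_univ, hA, Subgroup.relIndex_top_right] at h1
  rw [Subgroup.coe_top, Subgroup.centralizer_univ, hA, Subgroup.relIndex_top_right] at h2
  have e1 : Nat.card ↥A = p * (Subgroup.center Q).relIndex A := by
    rw [← h.2, ← Subgroup.relIndex_bot_left, ← Subgroup.relIndex_bot_left,
      Subgroup.relIndex_mul_relIndex _ _ _ bot_le hZA]
  rw [← A.card_mul_index, le_antisymm h2 h1, e1]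
  ring

/-- Abelian subgroups are at most that large. -/
theorem card_abelian_sq_le (h : Cfsg.IsExtraspecial p Q) (A : Subgroup Q)
    (hA : IsMulCommutative ↥A) : Nat.card A * Nat.card A ≤ Nat.card Q * p := by
  obtain ⟨B, ⟨hAB, hBc⟩, hBmax⟩ := (Set.toFinite
    {B : Subgroup Q | A ≤ B ∧ IsMulCommutative ↥B}).exists_maximal ⟨A, le_rfl, hA⟩
  have hBC : Subgroup.centralizer (B : Set Q) = B := by
    refine le_antisymm (fun y hy => ?_) (fun b hb => Subgroup.mem_centralizer_iff.2 fun c hc =>
      congrArg Subtype.val (hBc.is_comm.comm (⟨c, hc⟩ : ↥B) ⟨b, hb⟩))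
    set S := Subgroup.closure ((B : Set Q) ∪ {y})
    have hBS : B ≤ S := fun b hb => Subgroup.subset_closure (Or.inl hb)
    have hSc : IsMulCommutative ↥S := by
      refine Subgroup.isMulCommutative_closure fun a ha b hb => ?_
      rcases ha with ha | ha <;> rcases hb with hb | hb
      · exact congrArg Subtype.val (hBc.is_comm.comm (⟨a, ha⟩ : ↥B) ⟨b, hb⟩)
      · rw [Set.mem_singleton_iff.1 hb]; exact Subgroup.mem_centralizer_iff.1 hy a ha
      · rw [Set.mem_singleton_iff.1 ha]; exact (Subgroup.mem_centralizer_iff.1 hy b hb).symm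
      · rw [Set.mem_singleton_iff.1 ha, Set.mem_singleton_iff.1 hb]
    exact hBmax ⟨hAB.trans hBS, hSc⟩ hBS (Subgroup.subset_closure (Or.inr rfl))
  exact le_trans (Nat.mul_le_mul (Subgroup.card_le_of_le hAB) (Subgroup.card_le_of_le hAB))
    (card_self_centralizing h hBC).le

/-- An extraspecial group has order `p ^ (1 + 2n)` with `n ≥ 1`. -/
theorem exists_card_eq (h : Cfsg.IsExtraspecial p Q) :
    ∃ n : ℕ, 1 ≤ n ∧ Nat.card Q = p ^ (1 + 2 * n) := by
  have hp : p.Prime := Fact.out
  haveI : Group.IsNilpotent Q := h.1.1.isNilpotent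
  obtain ⟨A, -, -, hA⟩ := OddOrder.Nilp.exists_normal_abelian_self_centralizing (G := Q)
  have hc := card_self_centralizing h hA
  obtain ⟨a, ha⟩ := (h.1.1.to_subgroup A).exists_card_eq
  obtain ⟨q, hq⟩ := h.1.1.exists_card_eq
  rw [ha, hq, ← pow_add, ← pow_succ] at hc
  have he := Nat.pow_right_injective hp.two_le hc
  refine ⟨a - 1, ?_, ?_⟩
  · by_contra hlt
    -- then `Q` would be abelian of order `p`
    have hq1 : q ≤ 1 := by omega
    have htop : Subgroup.center Q = ⊤ := Subgroup.eq_top_of_card_eq _ (by
      refine le_antisymm (Subgroup.card_le_card_group _) ?_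
      rw [h.2, hq]
      exact le_trans (Nat.pow_le_pow_right hp.pos hq1) (pow_one p).le)
    have hbot : commutator Q = ⊥ := by
      rw [_root_.commutator_eq_bot_iff_center_eq_top]; exact htop
    rw [h.1.2.2] at hbot
    have h2 := h.2
    rw [hbot, Subgroup.card_bot] at h2
    exact hp.one_lt.ne h2
  · rw [hq]; congr 1; omega

end Cfsg.Agent.FGBasics.XS
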