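import Cfsg.Agent.Lib.Solvable.Fitting
import Mathlib.GroupTheory.Nilpotent

/-!
A criterion for a normal subgroup of a finite solvable group to lie in the Fitting subgroup.
-/

set_option autoImplicit false

namespace Cfsg.Agent.FGBasics

open Cfsg.Agent

variable {G : Type*} [Group G]

/-- If every element of a normal subgroup `C` of order prime to `p` centralizes `O_p(G)`, for every
prime `p`, then `C` lies in the Fitting subgroup. -/
theorem le_fitting_of_coprime_centralize [Finite G] [Group.IsSolvable G] {C : Subgroup G}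
    (hC : C.Normal)
    (h : ∀ p : ℕ, p.Prime → ∀ x ∈ C, (orderOf x).Coprime p →
      x ∈ Subgroup.centralizer ((Cfsg.pCore p G : Subgroup G) : Set G)) :
    C ≤ Cfsg.fittingSubgroup G := by
  classical
  obtain ⟨S, hS⟩ : ∃ S : ℕ → Subgroup G, ∀ q, S q =
      C ⊓ ⨅ p : {p : ℕ // p.Prime ∧ p ≠ q},
        Subgroup.centralizer ((Cfsg.pCore p G : Subgroup G) : Set G) := ⟨_, fun _ => rfl⟩
  have hSn : ∀ q, (S q).Normal := fun q => by
    haveI : (⨅ p : {p : ℕ // p.Prime ∧ p ≠ q},
        Subgroup.centralizer ((Cfsg.pCore p G : Subgroup G) : Set G)).Normal :=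
      Subgroup.normal_iInf_normal fun p => by
        haveI := FittingCores.pCore_normal (G := G) (p : ℕ)
        infer_instance
    rw [hS]
    exact inferInstanceAs (C ⊓ _).Normal
  have hmem : ∀ {q p : ℕ} {x : G}, x ∈ S q → p.Prime → p ≠ q →
      x ∈ Subgroup.centralizer ((Cfsg.pCore p G : Subgroup G) : Set G) :=
    fun {q p x} hx hp hpq => Subgroup.mem_iInf.1 (hS q ▸ hx : x ∈ C ⊓ _).2 ⟨p, hp, hpq⟩
  have hSC : ∀ {q : ℕ} {x : G}, x ∈ S q → x ∈ C := fun {q x} hx => (hS q ▸ hx : x ∈ C ⊓ _).1
  -- `q'`-elements of `S q` lie in the Fitting subgroup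
  have hF : ∀ {q : ℕ} {x : G}, q.Prime → x ∈ S q → (orderOf x).Coprime q →
      x ∈ Cfsg.fittingSubgroup G := by
    intro q x hq hx hxq
    refine FittingCores.centralizer_fitting_le ?_
    rw [Subgroup.mem_centralizer_iff]
    suffices hle : Cfsg.fittingSubgroup G ≤ Subgroup.centralizer ({x} : Set G) by
      intro y hy
      exact (Subgroup.mem_centralizer_singleton_iff.1 (hle hy))
    rw [FittingCores.fitting_eq_iSup_pCore]
    refine iSup_le fun p => ?_
    obtain ⟨p, hp⟩ := p
    intro y hy
    rw [Subgroup.mem_centralizer_singleton_iff]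
    rcases eq_or_ne p q with rfl | hpq
    · exact Subgroup.mem_centralizer_iff.1 (h p hp x (hSC hx) hxq) y hy
    · exact Subgroup.mem_centralizer_iff.1 (hmem hx hp hpq) y hy
  have hnil : ∀ q : ℕ, q.Prime → S q ≤ Cfsg.fittingSubgroup G := by
    intro q hq
    refine FittingCores.le_fitting (hSn q) (((isNilpotent_of_finite_tfae (G := ↥(S q))).out 0 3).2 ?_)
    intro r hr R
    -- for `r ≠ q` the Sylow `r`-subgroup is central
    have hcentral : ∀ r : ℕ, r.Prime → r ≠ q → ∀ R : Sylow r ↥(S q),
        (R : Subgroup ↥(S q)) ≤ Subgroup.center ↥(S q) := by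
      intro r hr hrq R y hy
      have := Fact.mk hr
      obtain ⟨k, hk⟩ := (R.isPGroup'.to_subgroup (Subgroup.zpowers ⟨y, hy⟩)).exists_card_eq
      rw [Nat.card_zpowers] at hk
      have hord : orderOf (y : G) = r ^ k := by
        rw [← hk, Subgroup.orderOf_mk, ← Subgroup.orderOf_coe]
      have hyF : (y : G) ∈ Cfsg.fittingSubgroup G :=
        hF hq y.2 (by rw [hord]; exact Nat.Coprime.pow_left k ((Nat.coprime_primes hr hq).2 hrq))
      haveI := FittingCores.fitting_nilpotent (G := G)
      have hp' : IsPGroup r ↥(Subgroup.zpowers (⟨(y : G), hyF⟩ : ↥(Cfsg.fittingSubgroup G))) :=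
        IsPGroup.of_card (n := k) (by
          rw [Nat.card_zpowers, Subgroup.orderOf_mk, hord])
      obtain ⟨T, hT⟩ := hp'.exists_le_sylow
      have hyO : (y : G) ∈ Cfsg.pCore r G :=
        FittingCores.sylow_le_pCore_of_nilpotent FittingCores.fitting_normal r T
          ⟨_, hT (Subgroup.mem_zpowers _), rfl⟩
      rw [Subgroup.mem_center_iff]
      intro z
      exact Subtype.ext (Subgroup.mem_centralizer_iff.1 (hmem z.2 hr hrq) _ hyO).symm
    by_cases hrq : r = q
    · subst hrq
      rw [← Subgroup.normalizer_eq_top_iff]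
      refine FittingCores.eq_top_of_forall_sylow_le fun s hs => ?_
      by_cases hsr : s = r
      · subst hsr
        exact ⟨R, Subgroup.le_normalizer⟩
      · exact ⟨default, (hcentral s hs hsr _).trans (Subgroup.center_le_normalizer _)⟩
    · exact ⟨fun n hn g => by
        rwa [Subgroup.mem_center_iff.1 (hcentral r hr.out hrq R hn) g, mul_inv_cancel_right]⟩
  -- every element of `C` is a product of prime-power elements lying in some `S r`
  intro c hc
  have htop : (Cfsg.fittingSubgroup G).subgroupOf (Subgroup.zpowers c) = ⊤ := by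
    refine FittingCores.eq_top_of_forall_sylow_le fun r hr => ⟨default, fun y hy => ?_⟩
    have := Fact.mk hr
    obtain ⟨k, hk⟩ := ((default : Sylow r ↥(Subgroup.zpowers c)).isPGroup'.to_subgroup
      (Subgroup.zpowers ⟨y, hy⟩)).exists_card_eq
    rw [Nat.card_zpowers, Subgroup.orderOf_mk, ← Subgroup.orderOf_coe] at hk
    have hyC : (y : G) ∈ C := Subgroup.zpowers_le.2 hc y.2
    refine hnil r hr ?_
    rw [hS]
    refine ⟨hyC, Subgroup.mem_iInf.2 fun p => h p p.2.1 _ hyC ?_⟩
    rw [Subgroup.coe_subtype, hk]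
    exact Nat.Coprime.pow_left k ((Nat.coprime_primes hr p.2.1).2 p.2.2.symm)
  have := (htop ▸ Subgroup.mem_top (⟨c, Subgroup.mem_zpowers c⟩ : ↥(Subgroup.zpowers c)) :
    _ ∈ (Cfsg.fittingSubgroup G).subgroupOf (Subgroup.zpowers c))
  exact this

end Cfsg.Agent.FGBasics
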