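import Cfsg.Agent.Lib.Extraspecial.ExpSq
import Cfsg.Prelude.Def_Transfer
import Mathlib

/-!
# Finite groups with all subgroups normal
-/

set_option autoImplicit false

namespace Cfsg.Agent.Hamiltonian

open Subgroup

variable {G : Type*} [Group G]

theorem normal_subtype (hn : ∀ H : Subgroup G, H.Normal) (S : Subgroup G) :
    ∀ H : Subgroup S, H.Normal := fun H => by
  rw [← Subgroup.comap_map_eq_self_of_injective S.subtype_injective H]
  haveI := hn (H.map S.subtype)
  exact inferInstance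

theorem comm_mem (hn : ∀ H : Subgroup G, H.Normal) (a b : G) :
    b * a * b⁻¹ * a⁻¹ ∈ zpowers a ⊓ zpowers b := by
  refine Subgroup.mem_inf.2 ⟨mul_mem ((hn _).conj_mem a (mem_zpowers a) b) (inv_mem (mem_zpowers a)), ?_⟩
  rw [show b * a * b⁻¹ * a⁻¹ = b * (a * b⁻¹ * a⁻¹) by group]
  exact mul_mem (mem_zpowers b) ((hn _).conj_mem _ (inv_mem (mem_zpowers b)) a)

theorem commute_of_mem_zpowers {a x : G} (h : x ∈ zpowers a) : Commute x a := by
  obtain ⟨k, rfl⟩ := mem_zpowers_iff.1 h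
  exact (Commute.refl a).zpow_left k

theorem mem_zpowers_of_pow_eq_one [Finite G] {p : ℕ} (hp : p.Prime) {x : G} {m : ℕ}
    (hx : orderOf x = p ^ (m + 1)) {c : G} (hc : c ∈ zpowers x) (hcp : c ^ p = 1) (hc1 : c ≠ 1) :
    x ^ p ^ m ∈ zpowers c := by
  obtain ⟨k, rfl⟩ := (mem_powers_iff_mem_zpowers (y := c)).2 hc
  rw [← pow_mul] at hcp
  have hd : p ^ m ∣ k := by
    have h1 := orderOf_dvd_of_pow_eq_one hcp
    rw [hx, pow_succ] at h1
    exact Nat.dvd_of_mul_dvd_mul_right hp.pos h1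
  obtain ⟨i, rfl⟩ := hd
  have hi : ¬ p ∣ i := by
    rintro ⟨j, rfl⟩
    refine hc1 ?_
    show x ^ (p ^ m * (p * j)) = 1
    rw [← mul_assoc, ← pow_succ, ← hx, pow_mul, pow_orderOf_eq_one, one_pow]
  have ho : orderOf (x ^ p ^ m) = p := by
    rw [orderOf_pow' _ (pow_ne_zero _ hp.ne_zero), hx, Nat.gcd_eq_right ⟨p, pow_succ p m⟩,
      Nat.pow_div (Nat.le_succ m) hp.pos, show m + 1 - m = 1 by omega, pow_one]
  have he : zpowers ((x ^ p ^ m) ^ i) = zpowers (x ^ p ^ m) := by
    refine Subgroup.eq_of_le_of_card_ge (zpowers_le.2 (pow_mem (mem_zpowers _) i)) ?_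
    rw [Nat.card_zpowers, Nat.card_zpowers, ho, orderOf_pow, ho,
      show Nat.gcd p i = 1 from (hp.coprime_iff_not_dvd.2 hi), Nat.div_one]
  show x ^ p ^ m ∈ zpowers (x ^ (p ^ m * i))
  rw [pow_mul, he]
  exact mem_zpowers _

theorem dvd_choose_pow {p n : ℕ} (hp : p.Prime) (h : p ≠ 2 ∨ 2 ≤ n) (hn : 1 ≤ n) : p ∣ (p ^ n).choose 2 := by
  have h2 : (p ^ n).choose 2 = p ^ n * (p ^ n - 1) / 2 := Nat.choose_two_right _
  rcases h with h | h
  · have he : 2 ∣ p ^ n - 1 := by
      have : Odd (p ^ n) := (hp.odd_of_ne_two h).pow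
      obtain ⟨k, hk⟩ := this
      exact ⟨k, by omega⟩
    rw [h2, Nat.mul_div_assoc _ he]
    exact (dvd_pow_self p (by omega)).trans (dvd_mul_right _ _)
  · by_cases hp2 : p = 2
    · subst hp2
      obtain ⟨k, rfl⟩ : ∃ k, n = k + 2 := ⟨n - 2, by omega⟩
      rw [h2]
      refine ⟨2 ^ k * (2 ^ (k + 2) - 1), ?_⟩
      rw [show 2 ^ (k + 2) * (2 ^ (k + 2) - 1) = 2 * (2 * (2 ^ k * (2 ^ (k + 2) - 1))) by ring]
      omega
    · have he : 2 ∣ p ^ n - 1 := by
        have : Odd (p ^ n) := (hp.odd_of_ne_two hp2).pow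
        obtain ⟨k, hk⟩ := this
        exact ⟨k, by omega⟩
      rw [h2, Nat.mul_div_assoc _ he]
      exact (dvd_pow_self p (by omega)).trans (dvd_mul_right _ _)

/-- A non-abelian `p`-group with all subgroups normal has `p = 2` and contains a quaternion pair. -/
theorem exists_pair [Finite G] {p : ℕ} [hp : Fact p.Prime] (hG : IsPGroup p G) (hn : ∀ H : Subgroup G, H.Normal)
    (hna : ∃ a b : G, a * b ≠ b * a) :
    p = 2 ∧ ∃ a b : G, a * b = b * a⁻¹ ∧ b ^ 2 = a ^ 2 ∧ a ^ 4 = 1 ∧ a ^ 2 ≠ 1 := by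
  obtain ⟨⟨a, b⟩, hab, hmin⟩ := Set.exists_min_image {w : G × G | w.1 * w.2 ≠ w.2 * w.1}
    (fun w => orderOf w.1 + orderOf w.2) (Set.toFinite _) (by obtain ⟨a, b, h⟩ := hna; exact ⟨(a, b), h⟩)
  replace hab : a * b ≠ b * a := hab
  wlog hle : orderOf b ≤ orderOf a generalizing a b
  · exact this b a (fun w hw => by
      have := hmin w hw
      simp only at this ⊢
      omega) (Ne.symm hab) (le_of_not_ge hle)
  have hmin' : ∀ x y : G, x * y ≠ y * x → orderOf a + orderOf b ≤ orderOf x + orderOf y :=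
    fun x y hxy => hmin (x, y) hxy
  -- the commutator
  set e := b * a * b⁻¹ * a⁻¹ with he
  have hba : b * a = e * (a * b) := by rw [he]; group
  have hem := comm_mem hn a b
  have hea : Commute e a := commute_of_mem_zpowers hem.1
  have heb : Commute e b := commute_of_mem_zpowers hem.2
  have he1 : e ≠ 1 := fun h => hab (by rw [hba, h, one_mul])
  obtain ⟨m, hm⟩ := IsPGroup.iff_orderOf.1 hG a
  obtain ⟨n, hn'⟩ := IsPGroup.iff_orderOf.1 hG b
  rcases n with _ | n
  · rw [pow_zero, orderOf_eq_one_iff] at hn'; exact absurd (by simp [hn']) hab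
  rcases m with _ | m
  · rw [pow_zero, orderOf_eq_one_iff] at hm; exact absurd (by simp [hm]) hab
  -- `b^p` commutes with `a`
  have hep : e ^ p = 1 := by
    have h1 : b ^ p * a = a * b ^ p := by
      by_contra h
      have h2 := hmin' _ _ (Ne.symm h)
      have h3 : orderOf (b ^ p) < orderOf b := by
        rw [orderOf_pow' _ hp.out.ne_zero, hn', Nat.gcd_eq_right (dvd_pow_self p n.succ_ne_zero)]
        exact Nat.div_lt_self (pow_pos hp.out.pos _) hp.out.one_lt
      omega
    have h4 := Cfsg.Agent.ExpSq.conj_pow_of_central hba heb p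
    rw [h1] at h4
    exact mul_eq_right.1 h4.symm
  have hA := mem_zpowers_of_pow_eq_one hp.out hm hem.1 hep he1
  have hB := mem_zpowers_of_pow_eq_one hp.out hn' hem.2 hep he1
  have hmn : n ≤ m := by
    have := (hn'.symm.trans_le hle).trans hm.le
    have := (Nat.pow_le_pow_iff_right hp.out.one_lt).1 this
    omega
  -- `e` is a power of `a^(p^m)`
  have he_mem : e ∈ zpowers (a ^ p ^ m) := by
    have h1 : zpowers (a ^ p ^ m) = zpowers e := by
      refine Subgroup.eq_of_le_of_card_ge (zpowers_le.2 hA) ?_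
      rw [Nat.card_zpowers, Nat.card_zpowers, orderOf_eq_prime hep he1, orderOf_pow' _ (pow_ne_zero _ hp.out.ne_zero),
        hm, Nat.gcd_eq_right ⟨p, pow_succ p m⟩, Nat.pow_div (Nat.le_succ m) hp.out.pos, show m + 1 - m = 1 by omega,
        pow_one]
    rw [h1]; exact mem_zpowers e
  obtain ⟨k, hk⟩ := (mem_powers_iff_mem_zpowers (y := b ^ p ^ n)).2 (zpowers_le.2 he_mem hB)
  replace hk : (a ^ p ^ m) ^ k = b ^ p ^ n := hk
  by_cases hcase : p = 2 ∧ m = 0
  · obtain ⟨rfl, rfl⟩ := hcase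
    exfalso
    -- impossible: `a` would have order two
    have h1 : a * a = 1 := by rw [← pow_two]; simpa [hm] using pow_orderOf_eq_one a
    have h2 : e ∈ zpowers a := hem.1
    have h3 : b * a * b⁻¹ ∈ zpowers a := (hn _).conj_mem a (mem_zpowers a) b
    obtain ⟨j, hj⟩ := mem_zpowers_iff.1 h3
    rw [← zpow_mod_orderOf, hm, show ((2 ^ (0 + 1) : ℕ) : ℤ) = 2 from rfl] at hj
    rcases Int.emod_two_eq_zero_or_one j with h0 | h0
    · rw [h0, zpow_zero, eq_comm, conj_eq_one_iff] at hj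
      exact hab (by simp [hj])
    · rw [h0, zpow_one] at hj
      exact hab (eq_mul_inv_iff_mul_eq.1 hj)
  -- shorten `b`
  have hchoose : (p ≠ 2 ∨ 2 ≤ m) → False := by
    intro h
    set x := a ^ (k * p ^ (m - n)) with hx
    have hxb : b * x = e ^ (k * p ^ (m - n)) * (x * b) := by
      have hab' : a * b = e⁻¹ * (b * a) := by rw [hba, inv_mul_cancel_left]
      have h1 := Cfsg.Agent.ExpSq.conj_pow_of_central hab' hea.inv_left (k * p ^ (m - n))
      rw [← hx] at h1
      rw [h1, ← mul_assoc (e ^ _), inv_pow, mul_inv_cancel, one_mul]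
    set f := (e ^ (k * p ^ (m - n)))⁻¹ with hf
    have hxb' : b * x⁻¹ = f * (x⁻¹ * b) := by
      have hc1 : Commute (e ^ (k * p ^ (m - n))) x := hea.pow_pow _ _
      have h2 : x * b = f * (b * x) := by rw [hxb, hf, inv_mul_cancel_left]
      calc b * x⁻¹ = x⁻¹ * (x * b) * x⁻¹ := by group
        _ = x⁻¹ * (f * (b * x)) * x⁻¹ := by rw [h2]
        _ = x⁻¹ * f * b := by group
        _ = f * (x⁻¹ * b) := by rw [← mul_assoc f, (hc1.inv_inv.eq : f * x⁻¹ = x⁻¹ * f)]
    have hfx : Commute f x⁻¹ := (hea.pow_pow _ _).inv_inv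
    have hfb : Commute f b := (heb.pow_left _).inv_left
    have hbase : (x⁻¹ * b) ^ p ^ n = 1 := by
      rw [Cfsg.Agent.ExpSq.mul_pow_of_central hxb' hfx hfb]
      have h1 : x⁻¹ ^ p ^ n * b ^ p ^ n = 1 := by
        rw [inv_pow, hx, ← pow_mul, mul_assoc, ← pow_add, Nat.sub_add_cancel hmn, ← hk, ← pow_mul, mul_comm (p ^ m) k,
          inv_mul_cancel]
      rw [h1, mul_one, hf, inv_pow, ← pow_mul]
      have hd : p ∣ k * p ^ (m - n) * (p ^ n).choose 2 := by
        rcases Nat.eq_zero_or_pos n with h0 | h0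
        · subst h0
          rcases Nat.eq_zero_or_pos m with hm0 | hm0
          · subst hm0; simp
          · exact ((dvd_pow_self p (by omega)).mul_left k).mul_right _
        · by_cases hlt : n < m
          · exact ((dvd_pow_self p (by omega)).mul_left k).mul_right _
          · exact (dvd_choose_pow hp.out (h.imp id (by omega)) h0).mul_left _
      obtain ⟨d, hd⟩ := hd
      rw [hd, pow_mul, hep, one_pow, inv_one]
    have hne : a * (x⁻¹ * b) ≠ x⁻¹ * b * a := by
      intro hcon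
      refine hab ?_
      have hxa : a * x⁻¹ = x⁻¹ * a := ((Commute.refl a).pow_right _).inv_right.eq
      rw [← mul_assoc, hxa, mul_assoc, mul_assoc] at hcon
      exact mul_left_cancel hcon
    have h1 := hmin' _ _ hne
    have h2 : orderOf (x⁻¹ * b) ≤ p ^ n := Nat.le_of_dvd (pow_pos hp.out.pos _) (orderOf_dvd_of_pow_eq_one hbase)
    have h3 : p ^ n < orderOf b := hn' ▸ Nat.pow_lt_pow_right hp.out.one_lt (Nat.lt_succ_self n)
    omega
  have hp2 : p = 2 := by_contra fun h => hchoose (Or.inl h)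
  subst hp2
  have hm1 : m = 1 := by
    by_contra h
    exact hchoose (Or.inr (by have : m ≠ 0 := fun h0 => hcase ⟨rfl, h0⟩; omega))
  subst hm1
  have hn1 : n = 1 := by
    by_contra h
    have hn0 : n = 0 := by omega
    subst hn0
    -- `b` would have order two
    have h3 : a * b * a⁻¹ ∈ zpowers b := (hn _).conj_mem b (mem_zpowers b) a
    obtain ⟨j, hj⟩ := mem_zpowers_iff.1 h3
    rw [← zpow_mod_orderOf, hn', show ((2 ^ (0 + 1) : ℕ) : ℤ) = 2 from rfl] at hj
    rcases Int.emod_two_eq_zero_or_one j with h0 | h0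
    · rw [h0, zpow_zero, eq_comm, conj_eq_one_iff] at hj
      exact hab (by simp [hj])
    · rw [h0, zpow_one] at hj
      exact hab (eq_mul_inv_iff_mul_eq.1 hj).symm
  subst hn1
  have ha4 : a ^ 4 = 1 := by simpa [hm] using pow_orderOf_eq_one a
  have ha2 : a ^ 2 ≠ 1 := fun h => by
    have := orderOf_dvd_of_pow_eq_one h
    rw [hm] at this
    norm_num at this
  have hb2 : b ^ 2 ≠ 1 := fun h => by
    have := orderOf_dvd_of_pow_eq_one h
    rw [hn'] at this
    norm_num at this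
  have hsq : ∀ {x y : G}, y ∈ zpowers x → y ^ 2 = 1 → x ^ 4 = 1 → y = 1 ∨ y = x ^ 2 ∨ x ^ 2 = 1 := by
    intro x y hy hy2 hx4
    obtain ⟨j, rfl⟩ := mem_zpowers_iff.1 hy
    have hxz : x ^ (4 : ℤ) = 1 := mod_cast hx4
    rw [zpow_eq_zpow_emod j hxz] at hy2 ⊢
    have hj : j % 4 = 0 ∨ j % 4 = 1 ∨ j % 4 = 2 ∨ j % 4 = 3 := by omega
    rcases hj with h | h | h | h <;> rw [h] at hy2 ⊢
    · exact Or.inl (zpow_zero x)
    · exact Or.inr (Or.inr (by simpa using hy2))
    · exact Or.inr (Or.inl (by norm_cast))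
    · refine Or.inr (Or.inr ?_)
      have h6 : x ^ 6 = 1 := by
        have : (x ^ 3) ^ 2 = 1 := mod_cast hy2
        rwa [← pow_mul] at this
      calc x ^ 2 = x ^ 2 * x ^ 4 := by rw [hx4, mul_one]
        _ = 1 := by rw [← pow_add]; exact h6
  have hb4 : b ^ 4 = 1 := by simpa [hn'] using pow_orderOf_eq_one b
  have ea : e = a ^ 2 := ((hsq hem.1 hep ha4).resolve_left he1).resolve_right ha2
  have eb : e = b ^ 2 := ((hsq hem.2 hep hb4).resolve_left he1).resolve_right hb2
  refine ⟨rfl, a, b, ?_, eb.symm.trans ea, ha4, ha2⟩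
  have hinv : a⁻¹ = a ^ 3 := inv_eq_of_mul_eq_one_left (by rw [← pow_succ]; exact ha4)
  have h5 : b * a = a ^ 3 * b := by
    rw [hba, ea, ← mul_assoc, ← pow_succ]
  calc a * b = a ^ 4 * (a * b) := by rw [ha4, one_mul]
    _ = a ^ 3 * (a ^ 2 * b) := by group
    _ = a ^ 3 * b * a ^ 2 := by rw [← ea, heb.eq]; group
    _ = b * a * a ^ 2 := by rw [h5]
    _ = b * a⁻¹ := by rw [hinv, mul_assoc, ← pow_succ']

/-- A `p`-group with all subgroups normal is abelian for odd `p`. -/
theorem comm_of_odd [Finite G] {p : ℕ} [Fact p.Prime] (hp2 : p ≠ 2) (hG : IsPGroup p G)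
    (hn : ∀ H : Subgroup G, H.Normal) (a b : G) : a * b = b * a :=
  by_contra fun h => hp2 (exists_pair hG hn ⟨a, b, h⟩).1

/-- An odd-order group with all subgroups normal is abelian. -/
theorem comm_of_odd_card [Finite G] (hodd : Odd (Nat.card G)) (hn : ∀ H : Subgroup G, H.Normal) :
    ∀ a b : G, a * b = b * a := by
  suffices h : center G = ⊤ from fun a b => (mem_center_iff.1 (h.symm ▸ mem_top a) b).symm
  refine Subgroup.eq_top_of_card_eq _ (Nat.dvd_antisymm (card_subgroup_dvd_card _) ?_)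
  rw [Nat.dvd_iff_prime_pow_dvd_dvd]
  intro q k hq hd
  rcases k with _ | k
  · simp
  haveI := Fact.mk hq
  have hq2 : q ≠ 2 := by
    rintro rfl
    exact (Nat.not_even_iff_odd.2 hodd) (even_iff_two_dvd.2 ((dvd_pow_self 2 k.succ_ne_zero).trans hd))
  obtain ⟨P⟩ := (inferInstance : Nonempty (Sylow q G))
  have hle : (P : Subgroup G) ≤ center G := by
    intro x hx
    have htop : centralizer ({x} : Set G) = ⊤ := by
      refine Subgroup.eq_top_of_card_eq _ (Nat.dvd_antisymm (card_subgroup_dvd_card _) ?_)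
      rw [Nat.dvd_iff_prime_pow_dvd_dvd]
      intro r j hr hdr
      rcases j with _ | j
      · simp
      haveI := Fact.mk hr
      obtain ⟨R⟩ := (inferInstance : Nonempty (Sylow r G))
      refine (R.pow_dvd_card_of_pow_dvd_card hdr).trans (card_dvd_of_le fun y hy => mem_centralizer_singleton_iff.2 ?_)
      by_cases hrq : r = q
      · subst hrq
        have hy' : y ∈ (P : Subgroup G) := by
          haveI := hn (P : Subgroup G)
          exact R.2.le_sylow_of_normal P hy
        exact congrArg Subtype.val (comm_of_odd hq2 P.2 (normal_subtype hn _) ⟨y, hy'⟩ ⟨x, hx⟩)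
      · exact (Subgroup.commute_of_normal_of_disjoint _ _ (hn _) (hn _)
          (IsPGroup.disjoint_of_ne r q hrq _ _ R.2 P.2) y x hy hx).eq
    exact mem_center_iff.2 fun y => mem_centralizer_singleton_iff.1 (htop.symm ▸ mem_top y)
  exact (P.pow_dvd_card_of_pow_dvd_card hd).trans (card_dvd_of_le hle)

end Cfsg.Agent.Hamiltonian
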