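import Cfsg.Agent.Lib.Solvable.Coprime
import Cfsg.Agent.Lib.Transfer.Basic
import Cfsg.Prelude.Def_Transfer
import Mathlib

/-!
The structure of a group `N ⋊ P` all of whose proper subgroups and quotients normalise their Sylow
`p`-subgroup while the group itself does not: `|P| = p` and `N` is an irreducible module of order
`q ^ orderOf q (mod p)`.
-/

set_option autoImplicit false

namespace Cfsg.Agent.MinNonClosed

open Cfsg.Agent

variable {G : Type*} [Group G]

/-- An irreducible fixed point free module of a group of prime order `p` over the prime field of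
order `q` has order `q ^ e`, `e` the order of `q` modulo `p`. -/
theorem card_irreducible {A : Type*} [AddCommGroup A] [Finite A] [Nontrivial A] {p q : ℕ}
    (hp : p.Prime) (hq : q.Prime) (hpq : q ≠ p) (hexp : ∀ a : A, q • a = 0) (f : AddMonoid.End A)
    (hf : f ^ p = 1) (hf1 : f ≠ 1)
    (hirr : ∀ W : AddSubgroup A, (∀ w ∈ W, f w ∈ W) → W = ⊥ ∨ W = ⊤) :
    Nat.card A = q ^ orderOf (q : ZMod p) := by
  classical
  haveI := Fact.mk hp
  haveI := Fact.mk hq
  set B : Subring (AddMonoid.End A) := Subring.closure {f} with hB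
  have hfB : f ∈ B := Subring.subset_closure rfl
  have hcommf : ∀ b ∈ B, Commute b f := by
    intro b hb
    have hle : B ≤ Subring.centralizer {f} := (Subring.closure_le).2 (by
      rintro x rfl
      exact Subring.mem_centralizer_iff.2 fun g hg => by rw [Set.mem_singleton_iff.1 hg])
    exact (Subring.mem_centralizer_iff.1 (hle hb) f rfl).symm
  have hcomm : ∀ a ∈ B, ∀ b ∈ B, Commute a b := by
    intro a ha b hb
    have hle : B ≤ Subring.centralizer {a} := (Subring.closure_le).2 (by
      rintro x rfl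
      exact Subring.mem_centralizer_iff.2 fun g hg => by
        rw [Set.mem_singleton_iff.1 hg]
        exact (hcommf a ha))
    exact Subring.mem_centralizer_iff.1 (hle hb) a rfl
  letI : CommRing B := { (inferInstance : Ring B) with mul_comm := fun a b => Subtype.ext (hcomm a a.2 b b.2) }
  have hinj : ∀ b : B, b ≠ 0 → Function.Injective ((b : AddMonoid.End A) : A → A) := by
    intro b hb
    rcases hirr (AddMonoidHom.ker (b : A →+ A)) (fun w hw => by
      rw [AddMonoidHom.mem_ker] at hw ⊢
      change (b : AddMonoid.End A) (f w) = 0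
      have h := DFunLike.congr_fun (hcommf b b.2).eq w
      change (b : AddMonoid.End A) (f w) = f ((b : AddMonoid.End A) w) at h
      rw [h]
      change (b : AddMonoid.End A) w = 0 at hw
      rw [hw, map_zero]) with h | h
    · exact (AddMonoidHom.ker_eq_bot_iff _).1 h
    · exfalso
      refine hb (Subtype.ext (AddMonoidHom.ext fun a => ?_))
      have ha : a ∈ AddMonoidHom.ker (b : A →+ A) := by rw [h]; exact AddSubgroup.mem_top a
      exact ha
  obtain ⟨v, hv⟩ := exists_ne (0 : A)
  let ev : B →+ A :=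
    { toFun := fun b => (b : AddMonoid.End A) v
      map_zero' := rfl
      map_add' := fun _ _ => rfl }
  have hev : Function.Bijective ev := by
    refine ⟨(injective_iff_map_eq_zero ev).2 fun b hb => ?_, ?_⟩
    · by_contra hne
      exact hv (hinj b hne (hb.trans (map_zero (b : AddMonoid.End A)).symm))
    · rcases hirr ev.range (by
        rintro _ ⟨b, rfl⟩
        exact ⟨⟨f, hfB⟩ * b, rfl⟩) with h | h
      · exfalso
        have : v ∈ ev.range := ⟨1, rfl⟩
        rw [h, AddSubgroup.mem_bot] at this
        exact hv this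
      · exact AddMonoidHom.range_eq_top.1 h
  haveI : Finite B := Finite.of_injective ev hev.1
  haveI : Nontrivial B := Function.Surjective.nontrivial hev.2
  have hcard : Nat.card B = Nat.card A := Nat.card_eq_of_bijective ev hev
  haveI : NoZeroDivisors B := ⟨fun {a b} hab => by
    by_contra hne
    simp only [not_or] at hne
    refine hne.2 (hev.1 ?_)
    refine hinj a hne.1 ?_
    rw [map_zero ev, map_zero]
    exact DFunLike.congr_fun (congrArg Subtype.val hab) v⟩
  haveI : IsDomain B := NoZeroDivisors.to_isDomain _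
  have hchar : (q : B) = 0 := by
    apply hev.1
    rw [← nsmul_one, map_nsmul, hexp, map_zero]
  haveI : CharP B q := by
    obtain ⟨c, hc⟩ := CharP.exists B
    have hdvd : c ∣ q := (CharP.cast_eq_zero_iff B c q).1 hchar
    rcases (Nat.dvd_prime hq).1 hdvd with rfl | rfl
    · haveI := hc
      exact (CharP.false_of_nontrivial_of_char_one (R := B)).elim
    · exact hc
  letI : Field B := (Finite.isField_of_domain B).toField
  set e := orderOf (q : ZMod p) with he
  have hq0 : (q : ZMod p) ≠ 0 := fun h =>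
    hpq ((Nat.prime_dvd_prime_iff_eq hp hq).1 ((ZMod.natCast_eq_zero_iff q p).1 h)).symm
  have hepos : 0 < e := orderOf_pos_iff.2 (isOfFinOrder_iff_pow_eq_one.2
    ⟨p - 1, Nat.sub_pos_of_lt hp.one_lt, ZMod.pow_card_sub_one_eq_one hq0⟩)
  have hpe : q ^ e ≡ 1 [MOD p] := by
    rw [← ZMod.natCast_eq_natCast_iff]
    push_cast
    exact pow_orderOf_eq_one _
  -- upper bound
  have hfix : ∀ b : B, b ^ q ^ e = b := by
    let S : Subring B := (iterateFrobenius B q e).eqLocus (RingHom.id B)
    have hfS : (⟨f, hfB⟩ : B) ∈ S := by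
      show iterateFrobenius B q e ⟨f, hfB⟩ = ⟨f, hfB⟩
      rw [iterateFrobenius_def]
      apply Subtype.ext
      rw [SubmonoidClass.coe_pow]
      show f ^ q ^ e = f
      rw [← Nat.div_add_mod (q ^ e) p, pow_add, pow_mul, hf, one_pow, one_mul, hpe,
        Nat.mod_eq_of_lt hp.one_lt, pow_one]
    have htop : ∀ (b : AddMonoid.End A) (hb : b ∈ B), (⟨b, hb⟩ : B) ∈ S := by
      intro b hb
      have hle : B ≤ S.map B.subtype := (Subring.closure_le).2 (by
        rintro x rfl
        exact ⟨⟨x, hfB⟩, hfS, rfl⟩)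
      obtain ⟨c, hc, hcb⟩ := hle hb
      have : c = ⟨b, hb⟩ := Subtype.ext hcb
      rwa [← this]
    intro b
    have h := htop b.1 b.2
    change iterateFrobenius B q e b = b at h
    rwa [iterateFrobenius_def] at h
  have hq1 : 1 < q ^ e := Nat.one_lt_pow hepos.ne' hq.one_lt
  haveI := Fintype.ofFinite B
  have hup : Nat.card B ≤ q ^ e := by
    have h1 := Polynomial.card_le_degree_of_subset_roots (p := (Polynomial.X ^ (q ^ e) - Polynomial.X : Polynomial B))
      (Z := (Finset.univ : Finset B)) (by
        intro b _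
        rw [Polynomial.mem_roots (FiniteField.X_pow_card_sub_X_ne_zero B hq1)]
        simp [hfix b])
    rw [FiniteField.X_pow_card_sub_X_natDegree_eq B hq1] at h1
    simpa [Nat.card_eq_fintype_card] using h1
  -- lower bound
  have hgp : IsPGroup q (Multiplicative A) := fun a => ⟨1, by
    rw [pow_one]
    exact congrArg Multiplicative.ofAdd (hexp a.toAdd)⟩
  obtain ⟨d, hd⟩ := IsPGroup.iff_card.1 hgp
  rw [Nat.card_congr Multiplicative.toAdd] at hd
  have hd0 : d ≠ 0 := by
    rintro rfl
    rw [pow_zero] at hd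
    exact (Finite.one_lt_card (α := A)).ne' hd
  let u : Bˣ := ⟨⟨f, hfB⟩, ⟨f ^ (p - 1), pow_mem hfB _⟩,
    Subtype.ext (show f * f ^ (p - 1) = 1 by rw [← pow_succ', Nat.sub_add_cancel hp.one_le, hf]),
    Subtype.ext (show f ^ (p - 1) * f = 1 by rw [← pow_succ, Nat.sub_add_cancel hp.one_le, hf])⟩
  have hu : orderOf u = p := orderOf_eq_prime (Units.ext (Subtype.ext (by simpa [u] using hf)))
    (fun h => hf1 (congrArg (fun z : Bˣ => ((z : B) : AddMonoid.End A)) h))
  have hdvd : p ∣ q ^ d - 1 := by
    rw [← hu, ← hd, ← hcard]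
    rw [← Nat.card_units]
    exact orderOf_dvd_natCard u
  have hed : e ∣ d := by
    refine orderOf_dvd_of_pow_eq_one ?_
    have h := (ZMod.natCast_eq_zero_iff _ p).2 hdvd
    rw [Nat.cast_sub (Nat.one_le_pow _ _ hq.pos)] at h
    push_cast at h
    exact sub_eq_zero.1 h
  have hde : d ≤ e := by
    rw [hcard, hd] at hup
    exact (Nat.pow_le_pow_iff_right hq.one_lt).1 hup
  rw [hd, le_antisymm (Nat.le_of_dvd (Nat.pos_of_ne_zero hd0) hed) hde]

/-- The structure of the minimal non-closed groups with a normal `p'`-subgroup supplementing a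
Sylow `p`-subgroup. -/
theorem structure_of_supplement [Finite G] {p : ℕ} [Fact p.Prime] (P : Sylow p G) (N : Subgroup G)
    [N.Normal] (hN : N ≠ ⊥) (hmin : ∀ B : Subgroup G, B.Normal → B ≤ N → B = ⊥ ∨ B = N)
    (hpN : (Nat.card N).Coprime p) (hsup : N ⊔ (P : Subgroup G) = ⊤) (hnn : ¬ (P : Subgroup G).Normal)
    (hsub : ∀ R H : Subgroup G, R ≤ (P : Subgroup G) → R ≤ H → H ≠ ⊤ → ¬ p ∣ R.relIndex H →
      H ≤ Subgroup.normalizer (R : Set G))
    (hquo : ∀ M : Subgroup G, M.Normal → M ≠ ⊥ → ((P : Subgroup G) ⊔ M).Normal) :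
    ∃ q : ℕ, q.Prime ∧ q ≠ p ∧ Nat.card G = p * q ^ orderOf (q : ZMod p) ∧
      ∃ A : Subgroup G, A.Normal ∧ Nat.card ↥A = q ^ orderOf (q : ZMod p) ∧ Cfsg.IsElementaryAbelian q A ∧
        ∀ B : Subgroup G, B.Normal → B ≤ A → B = ⊥ ∨ B = A := by
  classical
  have hp : p.Prime := Fact.out
  have hinf : ∀ R : Subgroup G, R ≤ (P : Subgroup G) → N ⊓ R = ⊥ := fun R hR =>
    PBasic.inf_eq_bot_of_coprime hpN (P.isPGroup'.to_le hR)
  have hNtop : ∀ H : Subgroup G, H ≤ Subgroup.normalizer (N : Set G) := fun H => by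
    rw [Subgroup.normalizer_eq_top]; exact le_top
  have hPne : (P : Subgroup G) ≠ ⊥ := fun h => hnn (by rw [h]; infer_instance)
  -- maximal subgroups of P are trivial
  have hcardG : Nat.card G = Nat.card N * Nat.card (P : Subgroup G) := by
    rw [← SolvBasic.card_sup_of_inf_eq_bot (hNtop _) (hinf _ le_rfl), hsup, Subgroup.card_top]
  obtain ⟨P1, hP1co⟩ : ∃ P1 : Subgroup ↥(P : Subgroup G), IsCoatom P1 := by
    haveI : Nontrivial ↥(P : Subgroup G) := (Subgroup.nontrivial_iff_ne_bot _).2 hPne
    exact IsCoatomic.exists_coatom _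
  haveI := P.isPGroup'.isNilpotent
  haveI hP1n : P1.Normal :=
    Subgroup.NormalizerCondition.normal_of_coatom P1 Group.normalizerCondition_of_isNilpotent hP1co
  set R := P1.map (P : Subgroup G).subtype with hR
  have hRP : R ≤ (P : Subgroup G) := Subgroup.map_subtype_le _
  have hRlt : Nat.card R < Nat.card (P : Subgroup G) := by
    refine lt_of_le_of_ne (Subgroup.card_le_of_le hRP) fun h => hP1co.1 ?_
    have h2 := Subgroup.eq_of_le_of_card_ge hRP h.ge
    have h3 : P1.map (P : Subgroup G).subtype = (⊤ : Subgroup ↥(P : Subgroup G)).map (P : Subgroup G).subtype := by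
      rw [← MonoidHom.range_eq_map, Subgroup.range_subtype]; exact h2
    exact Subgroup.map_injective (P : Subgroup G).subtype_injective h3
  have hRbot : R = ⊥ := by
    by_contra hne
    have hc : Nat.card ↥(N ⊔ R) = Nat.card N * Nat.card R :=
      SolvBasic.card_sup_of_inf_eq_bot (hNtop _) (hinf R hRP)
    have hne' : N ⊔ R ≠ ⊤ := by
      intro h
      rw [h, Subgroup.card_top, hcardG] at hc
      exact hRlt.ne' (Nat.eq_of_mul_eq_mul_left Nat.card_pos hc)
    have hidx : ¬ p ∣ R.relIndex (N ⊔ R) := by
      have h1 := PBasic.card_mul_relIndex (le_sup_right : R ≤ N ⊔ R)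
      rw [hc, mul_comm] at h1
      have h2 : R.relIndex (N ⊔ R) = Nat.card N := by
        refine Nat.eq_of_mul_eq_mul_right (Nat.card_pos (α := R)) ?_
        linarith [h1]
      rw [h2]
      exact hp.coprime_iff_not_dvd.1 hpN.symm
    have hNR : N ≤ Subgroup.normalizer (R : Set G) :=
      le_sup_left.trans (hsub R _ hRP le_sup_right hne' hidx)
    have hPR : (P : Subgroup G) ≤ Subgroup.normalizer (R : Set G) := by
      rw [← Subgroup.normal_subgroupOf_iff_le_normalizer hRP, Subgroup.subgroupOf,
        Subgroup.comap_map_eq_self_of_injective (P : Subgroup G).subtype_injective]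
      exact hP1n
    have hRn : R.Normal := by
      rw [← Subgroup.normalizer_eq_top_iff, eq_top_iff, ← hsup]
      exact sup_le hNR hPR
    have h := hquo R hRn hne
    rw [sup_eq_left.2 hRP] at h
    exact hnn h
  have hPp : Nat.card (P : Subgroup G) = p := by
    have hidx : P1.index = p := by
      haveI := hP1n
      obtain ⟨k, hk⟩ := P.isPGroup'.index P1
      have hsimp : ∀ K : Subgroup (↥(P : Subgroup G) ⧸ P1), K = ⊥ ∨ K = ⊤ := by
        intro K
        rcases hP1co.le_iff.1 (QuotientGroup.le_comap_mk' P1 K) with h | h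
        · right
          rw [← Subgroup.map_comap_eq_self_of_surjective (QuotientGroup.mk'_surjective P1) K, h,
            Subgroup.map_top_of_surjective _ (QuotientGroup.mk'_surjective P1)]
        · left
          rw [← Subgroup.map_comap_eq_self_of_surjective (QuotientGroup.mk'_surjective P1) K, h,
            QuotientGroup.map_mk'_self]
      rw [Subgroup.index_eq_card] at hk ⊢
      rcases k with _ | k
      · exfalso
        rw [pow_zero, ← Subgroup.index_eq_card, Subgroup.index_eq_one] at hk
        exact hP1co.1 hk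
      · obtain ⟨x, hx⟩ := exists_prime_orderOf_dvd_card' (G := ↥(P : Subgroup G) ⧸ P1) p
          (hk ▸ dvd_pow_self p (Nat.succ_ne_zero k))
        rcases hsimp (Subgroup.zpowers x) with h | h
        · rw [Subgroup.zpowers_eq_bot] at h
          rw [h, orderOf_one] at hx
          exact absurd hx.symm hp.ne_one
        · rw [← Subgroup.card_top, ← h, Nat.card_zpowers, hx]
    have hb : P1 = ⊥ := by
      rwa [hR, Subgroup.map_eq_bot_iff_of_injective _ (P : Subgroup G).subtype_injective] at hRbot
    rw [hb, Subgroup.index_bot] at hidx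
    exact hidx
  -- N is a q-group
  have hcen : ¬ N ≤ Subgroup.normalizer ((P : Subgroup G) : Set G) := by
    intro h
    apply hnn
    rw [← Subgroup.normalizer_eq_top_iff, eq_top_iff, ← hsup]
    exact sup_le h Subgroup.le_normalizer
  have hcopPN : (Nat.card (P : Subgroup G)).Coprime (Nat.card N) := by rw [hPp]; exact hpN.symm
  obtain ⟨q, hq, hqN, hNq⟩ : ∃ q : ℕ, q.Prime ∧ q ∣ Nat.card N ∧ IsPGroup q N := by
    by_contra hne
    apply hcen
    refine le_trans ?_ (Subgroup.centralizer_le_normalizer _)
    have hall : ∀ q : ℕ, q.Prime → q ^ (Nat.card N).factorization q ∣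
        Nat.card ↥(N ⊓ Subgroup.centralizer ((P : Subgroup G) : Set G)) := by
      intro q hq
      by_cases hqd : q ∣ Nat.card N
      swap
      · rw [Nat.factorization_eq_zero_of_not_dvd hqd, pow_zero]; exact one_dvd _
      haveI := Fact.mk hq
      obtain ⟨Q, hQ⟩ := CoprimeAct.exists_invariant_sylow (hNtop (P : Subgroup G)) hcopPN (Or.inl inferInstance) q
      set B := (Q : Subgroup ↥N).map N.subtype with hB
      have hBN : B ≤ N := Subgroup.map_subtype_le _
      have hBP : B ⊓ (P : Subgroup G) = ⊥ :=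
        le_bot_iff.1 ((inf_le_inf_right _ hBN).trans (hinf _ le_rfl).le)
      have hc : Nat.card ↥(B ⊔ (P : Subgroup G)) = Nat.card B * Nat.card (P : Subgroup G) :=
        SolvBasic.card_sup_of_inf_eq_bot hQ hBP
      by_cases htop : B ⊔ (P : Subgroup G) = ⊤
      · exfalso
        rw [htop, Subgroup.card_top, hcardG] at hc
        have heq := Subgroup.eq_of_le_of_card_ge hBN (Nat.eq_of_mul_eq_mul_right Nat.card_pos hc).le
        exact hne ⟨q, hq, hqd, heq ▸ Q.isPGroup'.map N.subtype⟩
      · have hidx : ¬ p ∣ (P : Subgroup G).relIndex (B ⊔ (P : Subgroup G)) := by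
          have h1 := PBasic.card_mul_relIndex (le_sup_right : (P : Subgroup G) ≤ B ⊔ (P : Subgroup G))
          rw [hc, mul_comm] at h1
          have h2 : (P : Subgroup G).relIndex (B ⊔ (P : Subgroup G)) = Nat.card B := by
            refine Nat.eq_of_mul_eq_mul_right (Nat.card_pos (α := (P : Subgroup G))) ?_
            linarith [h1]
          rw [h2]
          exact fun h => hp.coprime_iff_not_dvd.1 hpN.symm (h.trans (Subgroup.card_dvd_of_le hBN))
        have hBn : B ≤ Subgroup.normalizer ((P : Subgroup G) : Set G) :=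
          le_sup_left.trans (hsub _ _ le_rfl le_sup_right htop hidx)
        have hBc : B ≤ N ⊓ Subgroup.centralizer ((P : Subgroup G) : Set G) := fun x hx =>
          ⟨hBN hx, SchurZ.mem_centralizer_of_mem_normalizer hQ hBP hx (hBn hx)⟩
        have h3 := Subgroup.card_dvd_of_le hBc
        rwa [CoprimeAct.card_map_sylow] at h3
    have hd : Nat.card N ∣ Nat.card ↥(N ⊓ Subgroup.centralizer ((P : Subgroup G) : Set G)) := by
      rw [← Nat.factorization_prime_le_iff_dvd Nat.card_pos.ne' Nat.card_pos.ne']
      intro q hq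
      exact (hq.pow_dvd_iff_le_factorization Nat.card_pos.ne').1 (hall q hq)
    have heq := Subgroup.eq_of_le_of_card_ge
      (inf_le_left : N ⊓ Subgroup.centralizer ((P : Subgroup G) : Set G) ≤ N) (Nat.le_of_dvd Nat.card_pos hd)
    exact inf_eq_left.1 heq
  have hqp : q ≠ p := by
    rintro rfl
    exact hp.coprime_iff_not_dvd.1 hpN.symm hqN
  haveI := Fact.mk hq
  -- elementary abelian
  haveI : Nontrivial ↥N := (Subgroup.nontrivial_iff_ne_bot N).2 hN
  haveI : Nontrivial (Subgroup.center ↥N) := hNq.center_nontrivial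
  have habN : ∀ a ∈ N, ∀ b ∈ N, a * b = b * a := by
    rcases hmin ((Subgroup.center ↥N).map N.subtype)
      (ConjAct.normal_of_characteristic_of_normal (H := N) (K := Subgroup.center ↥N)) (Subgroup.map_subtype_le _) with h | h
    · exfalso
      rw [Subgroup.map_eq_bot_iff_of_injective _ N.subtype_injective] at h
      exact (Subgroup.nontrivial_iff_ne_bot _).1 inferInstance h
    · intro a ha b hb
      obtain ⟨z, hz, hza⟩ := h.ge ha
      have h2 := Subgroup.mem_center_iff.1 hz ⟨b, hb⟩
      have h3 := congrArg Subtype.val h2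
      simp only [Subgroup.coe_mul] at h3
      rw [← hza]
      exact h3.symm
  have hexpN : ∀ a ∈ N, a ^ q = 1 := by
    let T : Subgroup G :=
    { carrier := {a | a ∈ N ∧ a ^ q = 1}
      one_mem' := ⟨one_mem _, one_pow _⟩
      mul_mem' := fun {a b} ha hb => ⟨mul_mem ha.1 hb.1, by
        rw [(show Commute a b from habN a ha.1 b hb.1).mul_pow, ha.2, hb.2, one_mul]⟩
      inv_mem' := fun {a} ha => ⟨inv_mem ha.1, by rw [inv_pow, ha.2, inv_one]⟩ }
    rcases hmin T ⟨fun a ha g => ⟨(inferInstance : N.Normal).conj_mem a ha.1 g, by rw [conj_pow, ha.2]; group⟩⟩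
      (fun a ha => ha.1) with h | h
    · exfalso
      obtain ⟨x, hx⟩ := exists_prime_orderOf_dvd_card' (G := ↥N) q hqN
      have hxT : (x : G) ∈ T := ⟨x.2, by rw [← hx, ← Subgroup.orderOf_coe, pow_orderOf_eq_one]⟩
      rw [h, Subgroup.mem_bot] at hxT
      rw [← Subgroup.orderOf_coe, hxT, orderOf_one] at hx
      exact hq.ne_one hx.symm
    · intro a ha
      exact ((h.ge ha : a ∈ T)).2
  have hAel : Cfsg.IsElementaryAbelian q N :=
    ⟨⟨⟨fun a b => Subtype.ext (habN a a.2 b b.2)⟩⟩, hexpN⟩
  -- the order of N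
  obtain ⟨g, hgord⟩ := exists_prime_orderOf_dvd_card' (G := ↥(P : Subgroup G)) p (by rw [hPp])
  have hgP : Subgroup.zpowers (g : G) = (P : Subgroup G) :=
    Subgroup.eq_of_le_of_card_ge (Subgroup.zpowers_le.2 g.2)
      (by rw [hPp, Nat.card_zpowers, Subgroup.orderOf_coe, hgord])
  letI : CommGroup ↥N := { (inferInstance : Group ↥N) with mul_comm := fun a b => Subtype.ext (habN a a.2 b b.2) }
  let f : AddMonoid.End (Additive ↥N) := MonoidHom.toAdditive (MulAut.conjNormal (H := N) (g : G)).toMonoidHom
  have hfapp : ∀ a : Additive ↥N, (((f a).toMul : ↥N) : G) = (g : G) * (a.toMul : G) * (g : G)⁻¹ := fun a => rfl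
  have hfpow : ∀ k : ℕ, ∀ a : Additive ↥N,
      ((((f ^ k) a).toMul : ↥N) : G) = (g : G) ^ k * (a.toMul : G) * ((g : G) ^ k)⁻¹ := by
    intro k
    induction k with
    | zero => intro a; simp
    | succ k ih =>
      intro a
      rw [pow_succ']
      change (((f ((f ^ k) a)).toMul : ↥N) : G) = _
      rw [hfapp, ih, pow_succ']
      group
  have hgp1 : (g : G) ^ p = 1 :=
    (congrArg ((g : G) ^ ·) (show p = orderOf (g : G) by rw [Subgroup.orderOf_coe, hgord])).trans (pow_orderOf_eq_one _)
  have hfp : f ^ p = 1 := by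
    apply AddMonoidHom.ext
    intro a
    apply Additive.toMul.injective
    apply Subtype.ext
    refine (hfpow p a).trans ?_
    rw [hgp1, one_mul, inv_one, mul_one]
    rfl
  have hf1 : f ≠ 1 := by
    intro hf1
    apply hcen
    refine le_trans ?_ (Subgroup.centralizer_le_normalizer _)
    intro x hx
    rw [← hgP, Subgroup.zpowers_eq_closure, Subgroup.centralizer_closure, Subgroup.mem_centralizer_iff]
    intro y hy
    rw [Set.mem_singleton_iff] at hy
    subst hy
    have h := hfapp (Additive.ofMul ⟨x, hx⟩)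
    rw [hf1] at h
    simp only [toMul_ofMul, AddMonoid.End.coe_one, id_eq] at h
    exact mul_inv_eq_iff_eq_mul.1 h.symm
  have hirr : ∀ W : AddSubgroup (Additive ↥N), (∀ w ∈ W, f w ∈ W) → W = ⊥ ∨ W = ⊤ := by
    intro W hW
    set W' := (AddSubgroup.toSubgroup' W).map N.subtype with hW'
    have hmemW : ∀ a : ↥N, (a : G) ∈ W' ↔ Additive.ofMul a ∈ W := fun a => by
      constructor
      · rintro ⟨b, hb, hba⟩
        rw [← Subtype.ext (show (b : G) = (a : G) from hba)]
        exact hb
      · intro h; exact ⟨a, h, rfl⟩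
    have hW'N : W' ≤ N := Subgroup.map_subtype_le _
    have hgW : (g : G) ∈ Subgroup.normalizer (W' : Set G) := by
      rw [Subgroup.mem_normalizer_iff]
      have hfwd : ∀ x ∈ W', (g : G) * x * (g : G)⁻¹ ∈ W' := by
        intro x hx
        have h1 := (hmemW ⟨x, hW'N hx⟩).1 hx
        exact (hmemW _).2 (hW _ h1)
      intro x
      refine ⟨hfwd x, fun hx => ?_⟩
      have hit : ∀ k : ℕ, ∀ y ∈ W', (g : G) ^ k * y * ((g : G) ^ k)⁻¹ ∈ W' := by
        intro k
        induction k with
        | zero => simp
        | succ k ih =>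
          intro y hy
          have := ih _ (hfwd y hy)
          rw [pow_succ]
          simpa [mul_assoc] using this
      have h2 := hit (p - 1) _ hx
      have h3 : (g : G) ^ (p - 1) * g = 1 := by
        rw [← pow_succ, Nat.sub_add_cancel hp.one_le, hgp1]
      have h4 : (g : G) ^ (p - 1) = (g : G)⁻¹ := eq_inv_of_mul_eq_one_left h3
      rw [h4] at h2
      simpa [mul_assoc] using h2
    have hn : W'.Normal := by
      rw [← Subgroup.normalizer_eq_top_iff, eq_top_iff, ← hsup]
      refine sup_le (fun n hn => Subgroup.mem_normalizer_iff.2 fun x => ?_) (by rw [← hgP]; exact Subgroup.zpowers_le.2 hgW)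
      constructor
      · intro hx
        rw [show n * x * n⁻¹ = x from mul_inv_eq_iff_eq_mul.2 (habN n hn x (hW'N hx))]
        exact hx
      · intro hx
        have hxN : x ∈ N := by
          have := (inferInstance : N.Normal).conj_mem _ (hW'N hx) n⁻¹
          simpa [mul_assoc] using this
        rwa [show n * x * n⁻¹ = x from mul_inv_eq_iff_eq_mul.2 (habN n hn x hxN)] at hx
    rcases hmin W' hn hW'N with h | h
    · left
      rw [AddSubgroup.eq_bot_iff_forall]
      intro a ha
      have h1 := (hmemW a.toMul).2 ha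
      rw [h, Subgroup.mem_bot] at h1
      exact Additive.toMul.injective (Subtype.ext h1)
    · right
      rw [AddSubgroup.eq_top_iff']
      exact fun a => (hmemW a.toMul).1 (h.ge a.toMul.2)
  haveI : Finite (Additive ↥N) := Finite.of_equiv _ Additive.ofMul
  have hcN := card_irreducible hp hq hqp (fun a => Additive.toMul.injective (by
    rw [toMul_nsmul, toMul_zero]
    exact Subtype.ext (hexpN _ a.toMul.2))) f hfp hf1 hirr
  rw [Nat.card_congr Additive.toMul] at hcN
  refine ⟨q, hq, hqp, ?_, N, inferInstance, hcN, hAel, hmin⟩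
  rw [hcardG, hPp, hcN, mul_comm]

end Cfsg.Agent.MinNonClosed
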