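import Cfsg.Agent.Lib.Transfer.PGroup
import Mathlib

/-!
Soft subgroups of finite `p`-groups: self-centralizing abelian subgroups of index `p` in their
normalizer, and their normalizer towers.
-/

set_option autoImplicit false
set_option linter.style.haveILetI false

open scoped commutatorElement
open Subgroup

universe u

namespace Cfsg.Agent.Soft

variable {P : Type u} [Group P] {p : ℕ} [hp : Fact p.Prime]

theorem sup_zpowers_eq {H K : Subgroup P} (hHK : H ≤ K) (h : H.relIndex K = p) {t : P}
    (ht : t ∈ K) (ht' : t ∉ H) : H ⊔ zpowers t = K := by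
  have hle : H ⊔ zpowers t ≤ K := sup_le hHK (zpowers_le.2 ht)
  have h1 := relIndex_mul_relIndex H _ K le_sup_left hle
  rw [h] at h1
  rcases (Nat.dvd_prime hp.out).1 (dvd_of_mul_right_eq _ h1) with h2 | h2
  · exact absurd (relIndex_eq_one.1 h2 ((le_sup_right : zpowers t ≤ _) (mem_zpowers t))) ht'
  · rw [h2] at h1
    exact le_antisymm hle (relIndex_eq_one.1 ((Nat.mul_eq_left hp.out.ne_zero).1 h1))

/-- Elements of `A` and `t` commute modulo `W`, so commutators of `A ⊔ zpowers t` lie in `W`. -/
theorem commutator_sup_zpowers_le {A W : Subgroup P} [W.Normal] {t : P}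
    (hA : ∀ a ∈ A, ∀ b ∈ A, ⁅a, b⁆ ∈ W) (ht : ∀ a ∈ A, ⁅t, a⁆ ∈ W) :
    ⁅A ⊔ zpowers t, A ⊔ zpowers t⁆ ≤ W := by
  set f := QuotientGroup.mk' W with hf
  have hc : ∀ x y : P, ⁅x, y⁆ ∈ W ↔ f x * f y = f y * f x := by
    intro x y
    rw [← commutatorElement_eq_one_iff_mul_comm, ← map_commutatorElement, hf,
      QuotientGroup.mk'_apply, QuotientGroup.eq_one_iff]
  have h1 : A.map f ⊔ zpowers (f t) ≤ centralizer ((A.map f ⊔ zpowers (f t) : Subgroup _) : Set (P ⧸ W)) := by
    refine sup_le ?_ ?_ <;> rw [le_centralizer_iff] <;> refine sup_le ?_ ?_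
    · rintro _ ⟨a, ha, rfl⟩
      rw [mem_centralizer_iff]
      rintro _ ⟨b, hb, rfl⟩
      exact (hc b a).1 (hA b hb a ha)
    · rw [zpowers_le, mem_centralizer_iff]
      rintro _ ⟨b, hb, rfl⟩
      exact ((hc t b).1 (ht b hb)).symm
    · rintro _ ⟨a, ha, rfl⟩
      rw [mem_centralizer_iff]
      rintro _ ⟨n, rfl⟩
      exact Commute.zpow_left ((hc t a).1 (ht a ha)) n
    · rw [zpowers_le, mem_centralizer_iff]
      rintro _ ⟨n, rfl⟩
      exact Commute.zpow_left (Commute.refl _) n
  have h2 : (A ⊔ zpowers t).map f = A.map f ⊔ zpowers (f t) := by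
    rw [Subgroup.map_sup, MonoidHom.map_zpowers]
  rw [commutator_le]
  intro x hx y hy
  refine (hc x y).2 (mem_centralizer_iff.1 (h1 (h2 ▸ mem_map_of_mem f hy)) (f x) ?_)
  exact h2 ▸ mem_map_of_mem f hx

/-- A soft subgroup. -/
structure IsSoft (p : ℕ) (E : Subgroup P) : Prop where
  comm : IsMulCommutative E
  cent : centralizer (E : Set P) ≤ E
  idx : E.relIndex (normalizer (E : Set P)) = p

omit hp in
theorem IsSoft.mul_comm {E : Subgroup P} (h : IsSoft p E) {a b : P} (ha : a ∈ E) (hb : b ∈ E) :
    a * b = b * a :=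
  congrArg Subtype.val (h.comm.is_comm.comm ⟨a, ha⟩ ⟨b, hb⟩)

omit hp in
theorem IsSoft.center_le {E : Subgroup P} (h : IsSoft p E) : center P ≤ E :=
  fun _ hz => h.cent (mem_centralizer_iff.2 fun _ _ => mem_center_iff.1 hz _)

theorem IsSoft.comm_le {E : Subgroup P} (h : IsSoft p E) (W : Subgroup P) [W.Normal]
    {x : P} (hxN : x ∈ normalizer (E : Set P)) (hxE : x ∉ E) (hx : ∀ e ∈ E, ⁅x, e⁆ ∈ W) :
    ⁅normalizer (E : Set P), normalizer (E : Set P)⁆ ≤ W := by
  rw [← sup_zpowers_eq le_normalizer h.idx hxN hxE]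
  exact commutator_sup_zpowers_le
    (fun a ha b hb => by rw [commutatorElement_eq_one_iff_mul_comm.2 (h.mul_comm ha hb)]; exact one_mem W)
    hx

variable [Finite P]

theorem IsSoft.normalizer_le (hP : IsPGroup p P) {E : Subgroup P} (h : IsSoft p E) {K : Subgroup P}
    (hEK : E ≤ K) (hne : K ≠ E) : normalizer (E : Set P) ≤ K := by
  haveI := (hP.to_subgroup K).isNilpotent
  have hlt : E.subgroupOf K < normalizer ((E.subgroupOf K : Subgroup K) : Set K) := by
    refine Group.normalizerCondition_of_isNilpotent _ (lt_top_iff_ne_top.2 fun ht => hne ?_)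
    exact le_antisymm (Subgroup.subgroupOf_eq_top.1 ht) hEK
  obtain ⟨k, hk, hk'⟩ := SetLike.exists_of_lt hlt
  rw [← Subgroup.subgroupOf_normalizer_eq hEK] at hk
  rw [← sup_zpowers_eq le_normalizer h.idx (mem_subgroupOf.1 hk) hk']
  exact sup_le hEK (zpowers_le.2 k.2)

omit [Finite P] in
theorem IsSoft.eq_or_eq_of_le {E : Subgroup P} (h : IsSoft p E) {K : Subgroup P}
    (hEK : E ≤ K) (hK : K ≤ normalizer (E : Set P)) : K = E ∨ K = normalizer (E : Set P) := by
  have h1 := relIndex_mul_relIndex E K _ hEK hK
  rw [h.idx] at h1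
  rcases (Nat.dvd_prime hp.out).1 (dvd_of_mul_right_eq _ h1) with h2 | h2
  · exact Or.inl (le_antisymm (relIndex_eq_one.1 h2) hEK)
  · rw [h2] at h1
    exact Or.inr (le_antisymm hK (relIndex_eq_one.1 ((Nat.mul_eq_left hp.out.ne_zero).1 h1)))

/-- All conjugates of the commutator subgroup of `N(E)` lie in `E`. -/
theorem conj_commutator_le : ∀ (n : ℕ) (P : Type u) [Group P] [Finite P] (E : Subgroup P),
    Nat.card P ≤ n → IsPGroup p P → IsSoft p E →
    ⁅normalizer (E : Set P), normalizer (E : Set P)⁆ ≤ E →
    ∀ g, ∀ x ∈ ⁅normalizer (E : Set P), normalizer (E : Set P)⁆, g * x * g⁻¹ ∈ E := by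
  intro n
  induction n with
  | zero => intro P _ _ E hn; exact absurd hn (Nat.not_le.2 Nat.card_pos)
  | succ n IH =>
    intro P _ _ E hn hP hE hNE g x hx
    by_cases hZ : ⁅normalizer (E : Set P), normalizer (E : Set P)⁆ ≤ center P
    · rw [mem_center_iff.1 (hZ hx) g, mul_inv_cancel_right]
      exact hNE hx
    set f := QuotientGroup.mk' (center P) with hf
    have hsurj : Function.Surjective f := QuotientGroup.mk'_surjective _
    have hback : (E.map f).comap f = E := by
      rw [comap_map_eq, hf, QuotientGroup.ker_mk', sup_eq_left.2 hE.center_le]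
    have hnorm : (normalizer ((E.map f : Subgroup _) : Set (P ⧸ center P))).comap f
        = normalizer (E : Set P) := by
      rw [comap_normalizer_eq_of_surjective _ hsurj, hback]
    have hmapN : normalizer ((E.map f : Subgroup _) : Set (P ⧸ center P))
        = (normalizer (E : Set P)).map f := by
      rw [← hnorm, map_comap_eq_self_of_surjective hsurj]
    have hP' : IsPGroup p (P ⧸ center P) := hP.to_quotient _
    have hnt : center P ≠ ⊥ := by
      haveI : Nontrivial P := by
        by_contra hh
        rw [not_nontrivial_iff_subsingleton] at hh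
        exact hZ fun y _ => by rw [Subsingleton.elim y 1]; exact one_mem _
      haveI := hP.center_nontrivial
      exact (nontrivial_iff_ne_bot _).1 inferInstance
    have hlt : Nat.card (P ⧸ center P) < Nat.card P := by
      rw [(center P).card_eq_card_quotient_mul_card_subgroup]
      exact lt_mul_of_one_lt_right Nat.card_pos (by
        rcases lt_or_ge 1 (Nat.card (center P)) with h | h
        · exact h
        · exact absurd (Subgroup.eq_bot_of_card_le _ h) hnt)
    have hsoft : IsSoft p (E.map f) := by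
      refine ⟨⟨⟨?_⟩⟩, ?_, ?_⟩
      · rintro ⟨_, a, ha, rfl⟩ ⟨_, b, hb, rfl⟩
        exact Subtype.ext (show f a * f b = f b * f a by rw [← map_mul, ← map_mul, hE.mul_comm ha hb])
      · intro y hy
        obtain ⟨a, rfl⟩ := hsurj y
        have hcom : ∀ e ∈ E, ⁅a, e⁆ ∈ center P := fun e he => by
          rw [← QuotientGroup.eq_one_iff, ← QuotientGroup.mk'_apply, ← hf, map_commutatorElement,
            commutatorElement_eq_one_iff_mul_comm]
          exact (mem_centralizer_iff.1 hy (f e) (mem_map_of_mem f he)).symm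
        have haN : a ∈ normalizer (E : Set P) := by
          rw [← hnorm, mem_comap]
          exact centralizer_le_normalizer _ hy
        by_cases haE : a ∈ E
        · exact mem_map_of_mem f haE
        · exact absurd (hE.comm_le (center P) haN haE hcom) hZ
      · rw [hmapN, ← relIndex_comap, hback, hE.idx]
    have hNE' : ⁅normalizer ((E.map f : Subgroup _) : Set (P ⧸ center P)),
        normalizer ((E.map f : Subgroup _) : Set (P ⧸ center P))⁆ ≤ E.map f := by
      rw [hmapN, ← map_commutator]; exact map_mono hNE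
    have := IH _ (E.map f) (by omega) hP' hsoft hNE' (f g) (f x)
      (by rw [hmapN, ← map_commutator]; exact mem_map_of_mem f hx)
    rw [← hback, mem_comap, map_mul, map_mul, map_inv]
    exact this

/-- The first step of the tower. -/
theorem IsSoft.step (hP : IsPGroup p P) {E : Subgroup P} (h : IsSoft p E)
    (hN : normalizer (E : Set P) ≠ ⊤) :
    ⁅normalizer (E : Set P), normalizer (E : Set P)⁆ ≤ E ∧
      ⁅normalizer (E : Set P), normalizer (E : Set P)⁆ ≠ ⊥ ∧
      (normalizer (E : Set P)).relIndex (normalizer ((normalizer (E : Set P) : Subgroup P) : Set P)) = p := by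
  classical
  set M := normalizer (E : Set P) with hM
  haveI := hP.isNilpotent
  have hlt := Group.normalizerCondition_of_isNilpotent M (lt_top_iff_ne_top.2 hN)
  obtain ⟨x₀, hx₀, hx₀'⟩ := SetLike.exists_of_lt hlt
  -- conjugates of `E` inside `M`
  let C : P → Subgroup M := fun x => (E.comap (MulAut.conj x).toMonoidHom).subgroupOf M
  have hCmem : ∀ (x : P) (m : M), m ∈ C x ↔ x * (m : P) * x⁻¹ ∈ E := fun x m => Iff.rfl
  have hNM : ∀ x ∈ normalizer (M : Set P), ∀ m, m ∈ M ↔ x * m * x⁻¹ ∈ M := fun x hx m =>
    mem_normalizer_iff.1 hx m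
  have hCidx : ∀ x ∈ normalizer (M : Set P), (C x).index = p := by
    intro x hx
    have hle : E.comap (MulAut.conj x).toMonoidHom ≤ M :=
      fun y hy => (hNM x hx y).2 (le_normalizer hy)
    have h1 := relIndex_mul_index hle
    rw [index_comap_of_surjective E (MulAut.conj x).surjective,
      ← relIndex_mul_index (le_normalizer : E ≤ M), h.idx] at h1
    exact Nat.eq_of_mul_eq_mul_right (Nat.pos_of_ne_zero index_ne_zero_of_finite) h1
  have hCn : ∀ x ∈ normalizer (M : Set P), (C x).Normal := by
    intro x hx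
    refine ⟨fun y hy m => ?_⟩
    rw [hCmem] at hy ⊢
    have hm : x * (m : P) * x⁻¹ ∈ normalizer (E : Set P) := (hNM x hx m).1 m.2
    have h2 := (mem_normalizer_iff.1 hm _).1 hy
    simpa [mul_assoc] using h2
  set A := E.subgroupOf M with hA
  have hAidx : A.index = p := h.idx
  haveI hAn : A.Normal := normal_subgroupOf_of_le_normalizer le_rfl
  have hCA : ∀ x ∈ normalizer (M : Set P), C x = A → x ∈ M := by
    intro x hx hxe
    refine mem_normalizer_iff.2 fun y => ⟨fun hy => ?_, fun hy => ?_⟩
    · exact (hxe ▸ (show (⟨y, le_normalizer hy⟩ : M) ∈ A from hy) : (⟨y, le_normalizer hy⟩ : M) ∈ C x)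
    · have hyM : y ∈ M := (hNM x hx y).2 (le_normalizer hy)
      exact (hxe ▸ (show (⟨y, hyM⟩ : M) ∈ C x from hy) : (⟨y, hyM⟩ : M) ∈ A)
  have hzA : center M ≤ A := by
    intro z hz
    refine h.cent (mem_centralizer_iff.2 fun e he => ?_)
    exact congrArg Subtype.val (mem_center_iff.1 hz ⟨e, le_normalizer he⟩)
  have hzC : ∀ x ∈ normalizer (M : Set P), center M ≤ C x := by
    intro x hx z hz
    rw [hCmem]
    refine h.cent (mem_centralizer_iff.2 fun e he => ?_)
    have he' : x⁻¹ * e * x ∈ M := (hNM x hx _).2 (by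
      rw [show x * (x⁻¹ * e * x) * x⁻¹ = e by group]; exact le_normalizer he)
    have h1 : (x⁻¹ * e * x) * (z : P) = (z : P) * (x⁻¹ * e * x) :=
      congrArg Subtype.val (mem_center_iff.1 hz ⟨_, he'⟩)
    calc e * (x * (z : P) * x⁻¹) = x * ((x⁻¹ * e * x) * (z : P)) * x⁻¹ := by group
      _ = x * ((z : P) * (x⁻¹ * e * x)) * x⁻¹ := by rw [h1]
      _ = x * (z : P) * x⁻¹ * e := by group
  set A' := C x₀ with hA'
  haveI := hCn x₀ hx₀
  have hne : A' ≠ A := fun he => hx₀' (hCA x₀ hx₀ he)
  have hnle : ¬ A' ≤ A := by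
    intro hle
    have h1 := relIndex_mul_index hle
    rw [hAidx, hCidx x₀ hx₀, Nat.mul_eq_right hp.out.ne_zero, relIndex_eq_one] at h1
    exact hne (le_antisymm hle h1)
  have htop : A ⊔ A' = ⊤ := by
    rcases (Nat.dvd_prime hp.out).1 (hAidx ▸ index_dvd_of_le (le_sup_left : A ≤ A ⊔ A')) with h1 | h1
    · exact index_eq_one.1 h1
    · have h2 := relIndex_mul_index (le_sup_left : A ≤ A ⊔ A')
      rw [hAidx, h1, Nat.mul_eq_right hp.out.ne_zero, relIndex_eq_one] at h2
      exact absurd (le_sup_right.trans h2) hnle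
  have hAc : ∀ a ∈ A, ∀ b ∈ A, a * b = b * a := fun a ha b hb => Subtype.ext (h.mul_comm ha hb)
  have hA'c : ∀ a ∈ A', ∀ b ∈ A', a * b = b * a := by
    intro a ha b hb
    rw [hCmem] at ha hb
    have h1 := h.mul_comm ha hb
    apply Subtype.ext
    exact mul_right_cancel (b := x₀⁻¹) (by simpa [mul_assoc] using h1)
  have hZ : A ⊓ A' = center M := by
    refine le_antisymm (fun z hz => ?_) (le_inf hzA (hzC x₀ hx₀))
    rw [mem_center_iff]
    have hle : A ⊔ A' ≤ centralizer ({z} : Set M) := by
      refine sup_le (fun y hy => ?_) (fun y hy => ?_) <;> rw [mem_centralizer_singleton_iff]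
      · exact hAc y hy z hz.1
      · exact hA'c y hy z hz.2
    exact fun m => mem_centralizer_singleton_iff.1 (hle (htop ▸ mem_top m))
  have hZC : ∀ x ∈ normalizer (M : Set P), (center M).relIndex (C x) = p := by
    have hZidx : (center M).index = p * p := by
      rw [← relIndex_mul_index (inf_le_right : A ⊓ A' ≤ A') |>.trans (congrArg index hZ),
        inf_relIndex_right, ← relIndex_sup_left (H := A') (K := A), htop, relIndex_top_right, hAidx,
        hCidx x₀ hx₀]
    intro x hx
    have h1 := relIndex_mul_index (hzC x hx)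
    rw [hCidx x hx, hZidx] at h1
    exact Nat.eq_of_mul_eq_mul_right hp.out.pos h1
  have hZA : (center M).relIndex A = p := by
    have h1 := hZC 1 (one_mem _)
    have e : C 1 = A := by ext m; rw [hCmem]; simp [hA, mem_subgroupOf]
    rwa [e] at h1
  obtain ⟨a, ha, ha'⟩ := SetLike.exists_of_lt (lt_of_le_of_ne hzA fun he => by
    rw [he, relIndex_self] at hZA; exact hp.out.one_lt.ne hZA)
  obtain ⟨b, hb, hb'⟩ := SetLike.exists_of_lt (lt_of_le_of_ne (hzC x₀ hx₀) fun he => by
    have := hZC x₀ hx₀
    rw [he, relIndex_self] at this; exact hp.out.one_lt.ne this)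
  set c := ⁅a, b⁆ with hc
  have hcZ : c ∈ center M := hZ ▸
    ⟨commutator_le_left A ⊤ (commutator_mem_commutator ha (mem_top b)),
      commutator_le_right ⊤ A' (commutator_mem_commutator (mem_top a) hb)⟩
  have hAeq : center M ⊔ zpowers a = A := sup_zpowers_eq hzA hZA ha ha'
  have hcomm : commutator M ≤ zpowers c := by
    haveI : (zpowers c).Normal := ⟨fun y hy g => by
      rw [mem_center_iff.1 (zpowers_le.2 hcZ hy) g, mul_inv_cancel_right]; exact hy⟩
    have hb1 : ∀ y ∈ A, ⁅b, y⁆ ∈ zpowers c := by
      have hle : A ≤ (centralizer ({QuotientGroup.mk' (zpowers c) b} : Set _)).comap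
          (QuotientGroup.mk' (zpowers c)) := by
        rw [← hAeq]
        refine sup_le (fun y hy => ?_) (zpowers_le.2 ?_) <;>
          rw [mem_comap, mem_centralizer_singleton_iff, ← map_mul, ← map_mul]
        · rw [mem_center_iff.1 hy b]
        · have e : (QuotientGroup.mk' (zpowers c)) ⁅a, b⁆ = 1 :=
            (QuotientGroup.eq_one_iff _).2 (mem_zpowers c)
          rw [map_commutatorElement, commutatorElement_eq_one_iff_mul_comm] at e
          rw [map_mul, map_mul]
          exact e
      intro y hy
      have h1 := mem_centralizer_singleton_iff.1 (mem_comap.1 (hle hy))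
      rw [← QuotientGroup.eq_one_iff, ← QuotientGroup.mk'_apply, map_commutatorElement,
        commutatorElement_eq_one_iff_mul_comm]
      exact h1.symm
    have htop' : (⊤ : Subgroup M) = A ⊔ zpowers b := by
      refine (top_le_iff.1 ?_).symm
      rw [← htop]
      show A ⊔ C x₀ ≤ _
      rw [← sup_zpowers_eq (hzC x₀ hx₀) (hZC x₀ hx₀) hb hb']
      exact sup_le le_sup_left (sup_le (hzA.trans le_sup_left) le_sup_right)
    rw [_root_.commutator_def, htop']
    exact commutator_sup_zpowers_le
      (fun a ha b hb => by rw [commutatorElement_eq_one_iff_mul_comm.2 (hAc a ha b hb)]; exact one_mem _)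
      hb1
  have hMM : ⁅M, M⁆ = (commutator M).map M.subtype := (map_subtype_commutator M).symm
  refine ⟨?_, ?_, ?_⟩
  · rw [hMM, map_le_iff_le_comap]
    exact hcomm.trans (zpowers_le.2 (hzA hcZ))
  · intro hbot
    have hsub : M ≤ centralizer (M : Set P) := commutator_eq_bot_iff_le_centralizer.1 hbot
    have hME : M ≤ E := fun m hm => h.cent (mem_centralizer_iff.2 fun e he =>
      mem_centralizer_iff.1 (hsub hm) e (le_normalizer he))
    have := h.idx
    rw [relIndex_eq_one.2 hME] at this
    exact hp.out.one_lt.ne this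
  · -- count the conjugates
    have key : ∀ x ∈ normalizer (M : Set P), C x ≠ A → ∃ j : Fin p, a ^ (j : ℕ) * b ∈ C x := by
      intro x hx hxA
      haveI := hCn x hx
      have haC : a ∉ C x := by
        intro haC
        apply hxA
        rw [← sup_zpowers_eq (hzC x hx) (hZC x hx) haC ha', hAeq]
      set q := QuotientGroup.mk' (C x) with hq
      have hcard : Nat.card (M ⧸ C x) = p := hCidx x hx
      have hne1 : q a ≠ 1 := fun h1 => haC ((QuotientGroup.eq_one_iff a).1 h1)
      have hord : orderOf (q a) = p := orderOf_eq_prime (hcard ▸ pow_card_eq_one') hne1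
      obtain ⟨j, hj⟩ := (mem_zpowers_of_prime_card hcard hne1 : (q b)⁻¹ ∈ zpowers (q a))
      have hp0 : (0 : ℤ) < p := by exact_mod_cast hp.out.pos
      refine ⟨⟨(j % p).toNat, ?_⟩, ?_⟩
      · have h1 := Int.emod_lt_of_pos j hp0
        have h2 := Int.emod_nonneg j hp0.ne'
        omega
      · rw [← QuotientGroup.eq_one_iff, ← QuotientGroup.mk'_apply, ← hq, map_mul, map_pow,
          ← zpow_natCast, Int.toNat_of_nonneg (Int.emod_nonneg j hp0.ne'), ← hord, zpow_mod_orderOf]
        simp only at hj
        rw [hj, inv_mul_cancel]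
    let N2 := normalizer (M : Set P)
    let G : N2 → Option (Fin p) := fun x =>
      if hx : C x = A then none else some (key x x.2 hx).choose
    have hG : ∀ x y : N2, G x = G y → C x = C y := by
      intro x y hxy
      by_cases hx : C x = A <;> by_cases hy : C y = A
      · rw [hx, hy]
      · simp [G, hx, hy] at hxy
      · simp [G, hx, hy] at hxy
      · simp only [G, dif_neg hx, dif_neg hy, Option.some.injEq] at hxy
        have h1 := (key x x.2 hx).choose_spec
        have h2 := (key y y.2 hy).choose_spec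
        rw [← hxy] at h2
        have hnz : a ^ ((key x x.2 hx).choose : ℕ) * b ∉ center M := by
          intro hz
          have : b ∈ A := by
            have h3 := mul_mem (inv_mem (pow_mem ha ((key x x.2 hx).choose : ℕ))) (hzA hz)
            rwa [inv_mul_cancel_left] at h3
          exact hb' (hZ ▸ ⟨this, hb⟩)
        rw [← sup_zpowers_eq (hzC x x.2) (hZC x x.2) h1 hnz,
          ← sup_zpowers_eq (hzC y y.2) (hZC y y.2) h2 hnz]
    have hinj : Function.Injective (fun q : N2 ⧸ M.subgroupOf N2 => G q.out⁻¹) := by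
      intro q r hqr
      have h1 := hG _ _ hqr
      rw [← Quotient.out_eq q, ← Quotient.out_eq r]
      refine QuotientGroup.eq.2 ?_
      rw [mem_subgroupOf, Subgroup.coe_mul, Subgroup.coe_inv]
      set u : P := ((q.out⁻¹ : N2) : P) with hu
      set v : P := ((r.out⁻¹ : N2) : P) with hv
      have huv : u * v⁻¹ = (q.out : P)⁻¹ * (r.out : P) := by simp [hu, hv]
      rw [← huv]
      have hmem : u * v⁻¹ ∈ N2 := mul_mem (SetLike.coe_mem _) (inv_mem (SetLike.coe_mem _))
      refine hCA _ hmem ?_
      ext m
      rw [hCmem]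
      have hm' : v⁻¹ * (m : P) * v ∈ M := by
        have := (hNM v (SetLike.coe_mem _) (v⁻¹ * (m : P) * v)).2
        exact this (by rw [show v * (v⁻¹ * (m : P) * v) * v⁻¹ = m by group]; exact m.2)
      have h2 : (⟨_, hm'⟩ : M) ∈ C u ↔ (⟨_, hm'⟩ : M) ∈ C v := by rw [h1]
      rw [hCmem, hCmem] at h2
      rw [hA, mem_subgroupOf, show u * v⁻¹ * (m : P) * (u * v⁻¹)⁻¹ = u * (v⁻¹ * (m : P) * v) * u⁻¹ by group]
      exact h2.trans (by rw [show v * (v⁻¹ * (m : P) * v) * v⁻¹ = m by group])
    have hle : (M.subgroupOf N2).index ≤ p + 1 := by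
      have := Nat.card_le_card_of_injective _ hinj
      rwa [← Subgroup.index, Nat.card_eq_fintype_card, Fintype.card_option, Fintype.card_fin] at this
    obtain ⟨k, hk⟩ := (hP.to_subgroup N2).index (M.subgroupOf N2)
    change (M.subgroupOf N2).index = p
    rw [hk] at hle ⊢
    rcases k with _ | _ | k
    · rw [pow_zero, index_eq_one, subgroupOf_eq_top] at hk
      exact absurd (hk hx₀) hx₀'
    · exact pow_one p
    · exfalso
      have h1 : p * p ≤ p ^ (k + 2) := by
        rw [← pow_two]; exact Nat.pow_le_pow_right hp.out.pos (by omega)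
      nlinarith [hp.out.two_le]

/-- The normalizer tower. -/
theorem tower : ∀ (n : ℕ) (P : Type u) [Group P] [Finite P] (E : Subgroup P),
    Nat.card P ≤ n → IsPGroup p P → IsSoft p E →
    (∀ K L : Subgroup P, E ≤ K → E ≤ L → K ≤ L ∨ L ≤ K) ∧
      (∀ K : Subgroup P, E ≤ K → K ≠ ⊤ → K.relIndex (normalizer (K : Set P)) = p) ∧
      ∀ (i : ℕ) (K : Subgroup P), E ≤ K → K ≠ ⊤ → K.index * p ^ i = E.index →
        Subgroup.upperCentralSeries K (i + 1) = ⊤ := by
  intro n
  induction n with
  | zero => intro P _ _ E hn; exact absurd hn (Nat.not_le.2 Nat.card_pos)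
  | succ n IH =>
    intro P _ _ E hn hP hE
    have hEcase : ∀ i : ℕ, Subgroup.upperCentralSeries E (i + 1) = ⊤ := fun i => by
      refine top_le_iff.1 (le_trans ?_ (Subgroup.upperCentralSeries_mono E (Nat.succ_le_succ (Nat.zero_le i))))
      rw [Subgroup.upperCentralSeries_one]
      exact fun x _ => mem_center_iff.2 fun y => hE.comm.is_comm.comm y x
    set M := normalizer (E : Set P) with hM
    by_cases hMt : M = ⊤
    · have hcases : ∀ K : Subgroup P, E ≤ K → K = E ∨ K = ⊤ := fun K hK => by
        rcases hE.eq_or_eq_of_le hK (by rw [← hM, hMt]; exact le_top) with h | h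
        · exact Or.inl h
        · exact Or.inr (h.trans hMt)
      refine ⟨fun K L hK hL => ?_, fun K hK hKt => ?_, fun i K hK hKt _ => ?_⟩
      · rcases hcases K hK with rfl | rfl
        · exact Or.inl hL
        · exact Or.inr le_top
      · rcases hcases K hK with rfl | rfl
        · exact hE.idx
        · exact absurd rfl hKt
      · rcases hcases K hK with rfl | rfl
        · exact hEcase i
        · exact absurd rfl hKt
    obtain ⟨hder, hderne, hstep⟩ := hE.step hP hMt
    set W := normalClosure ((⁅M, M⁆ : Subgroup P) : Set P) with hW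
    have hWE : W ≤ E := by
      rw [hW, normalClosure, closure_le]
      intro y hy
      obtain ⟨x, hx, hconj⟩ := Group.mem_conjugatesOfSet_iff.1 hy
      obtain ⟨g, rfl⟩ := isConj_iff.1 hconj
      exact conj_commutator_le (Nat.card P) P E le_rfl hP hE hder g x hx
    have hEM : E ≤ M := le_normalizer
    set f := QuotientGroup.mk' W with hf
    have hsurj : Function.Surjective f := QuotientGroup.mk'_surjective _
    have hback : ∀ K : Subgroup P, E ≤ K → (K.map f).comap f = K := fun K hK => by
      rw [comap_map_eq, hf, QuotientGroup.ker_mk', sup_eq_left.2 (hWE.trans hK)]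
    have hnorm : ∀ K : Subgroup P, E ≤ K →
        normalizer ((K.map f : Subgroup _) : Set (P ⧸ W)) = (normalizer (K : Set P)).map f := by
      intro K hK
      rw [← map_comap_eq_self_of_surjective hsurj (normalizer ((K.map f : Subgroup _) : Set (P ⧸ W))),
        comap_normalizer_eq_of_surjective _ hsurj, hback K hK]
    have hrel : ∀ K : Subgroup P, E ≤ K →
        (K.map f).relIndex (normalizer ((K.map f : Subgroup _) : Set (P ⧸ W)))
          = K.relIndex (normalizer (K : Set P)) := fun K hK => by
      rw [hnorm K hK, ← relIndex_comap, hback K hK]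
    have hsoft : IsSoft p (M.map f) := by
      refine ⟨⟨⟨?_⟩⟩, ?_, ?_⟩
      · rintro ⟨_, a, ha, rfl⟩ ⟨_, b, hb, rfl⟩
        refine Subtype.ext (commutatorElement_eq_one_iff_mul_comm.1 ?_)
        show ⁅f a, f b⁆ = 1
        rw [← map_commutatorElement]
        exact (QuotientGroup.eq_one_iff _).2 (subset_normalClosure (commutator_mem_commutator ha hb))
      · intro y hy
        obtain ⟨a, rfl⟩ := hsurj y
        refine mem_map_of_mem f ?_
        have hE' : a ∈ (normalizer ((E.map f : Subgroup _) : Set (P ⧸ W))).comap f :=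
          centralizer_le_normalizer _ (centralizer_le (map_mono hEM : E.map f ≤ M.map f) hy)
        rwa [comap_normalizer_eq_of_surjective _ hsurj, hback E le_rfl] at hE'
      · rw [hrel M hEM, hstep]
    have hlt : Nat.card (P ⧸ W) < Nat.card P := by
      rw [W.card_eq_card_quotient_mul_card_subgroup]
      refine lt_mul_of_one_lt_right Nat.card_pos ?_
      rcases lt_or_ge 1 (Nat.card W) with h | h
      · exact h
      · exact absurd (le_bot_iff.1 ((Subgroup.eq_bot_of_card_le _ h) ▸ (subset_normalClosure :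
          ((⁅M, M⁆ : Subgroup P) : Set P) ⊆ W))) hderne
    obtain ⟨hch, hidx, hcl⟩ := IH _ (M.map f) (by omega) (hP.to_quotient W) hsoft
    have hMle : ∀ K : Subgroup P, E ≤ K → K ≠ E → M ≤ K := fun K hK hne => hE.normalizer_le hP hK hne
    have hKt' : ∀ K : Subgroup P, E ≤ K → K ≠ ⊤ → K.map f ≠ ⊤ := fun K hK hne h =>
      hne (by rw [← hback K hK, h, comap_top])
    have hchain : ∀ K L : Subgroup P, E ≤ K → E ≤ L → K ≤ L ∨ L ≤ K := by
      intro K L hK hL
      by_cases hKE : K = E
      · exact Or.inl (hKE ▸ hL)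
      by_cases hLE : L = E
      · exact Or.inr (hLE ▸ hK)
      rcases hch _ _ (map_mono (hMle K hK hKE)) (map_mono (hMle L hL hLE)) with h | h
      · exact Or.inl (by rw [← hback K hK, ← hback L hL]; exact comap_mono h)
      · exact Or.inr (by rw [← hback K hK, ← hback L hL]; exact comap_mono h)
    have hidx' : ∀ K : Subgroup P, E ≤ K → K ≠ ⊤ → K.relIndex (normalizer (K : Set P)) = p := by
      intro K hK hKt
      by_cases hKE : K = E
      · rw [hKE]; exact hE.idx
      · rw [← hrel K hK]
        exact hidx _ (map_mono (hMle K hK hKE)) (hKt' K hK hKt)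
    refine ⟨hchain, hidx', fun i K hK hKt hi => ?_⟩
    by_cases hKE : K = E
    · subst hKE; exact hEcase i
    -- `W` is central in `K`
    have hKW : K ≤ centralizer (W : Set P) := by
      have hEC : E ≤ centralizer (W : Set P) := fun e he =>
        mem_centralizer_iff.2 fun w hw => hE.mul_comm (hWE hw) he
      by_contra hKnle
      rcases hchain K _ hK hEC with h | h
      · exact hKnle h
      ·
        have hne' : centralizer (W : Set P) ≠ ⊤ := fun ht => hKt (top_le_iff.1 (ht ▸ h))
        have h1 := hidx' _ hEC hne'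
        rw [normalizer_eq_top, relIndex_top_right] at h1
        have h2 := relIndex_mul_index h
        rw [h1] at h2
        rcases (Nat.dvd_prime hp.out).1 (dvd_of_mul_left_eq _ h2) with h3 | h3
        · exact hKt (index_eq_one.1 h3)
        · rw [h3, Nat.mul_eq_right hp.out.ne_zero, relIndex_eq_one] at h2
          exact hKnle h2
    obtain ⟨j, rfl⟩ : ∃ j, i = j + 1 := by
      refine Nat.exists_eq_succ_of_ne_zero fun h0 => hKE ?_
      subst h0
      rw [pow_zero, mul_one] at hi
      have h2 := relIndex_mul_index hK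
      rw [hi, Nat.mul_eq_right index_ne_zero_of_finite, relIndex_eq_one] at h2
      exact le_antisymm h2 hK
    have hi' : (K.map f).index * p ^ j = (M.map f).index := by
      have hk : ∀ L : Subgroup P, E ≤ L → (L.map f).index = L.index := fun L hL =>
        index_map_eq L hsurj (by rw [hf, QuotientGroup.ker_mk']; exact hWE.trans hL)
      rw [hk K hK, hk M hEM]
      have h2 := relIndex_mul_index (le_normalizer : E ≤ M)
      rw [← hM, hE.idx, ← hi, pow_succ] at h2
      refine Nat.eq_of_mul_eq_mul_left hp.out.pos ?_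
      rw [h2]; ring
    have hup := hcl j (K.map f) (map_mono (hMle K hK hKE)) (hKt' K hK hKt) hi'
    set g := f.subgroupMap K with hg
    have hpull : ∀ m, (Subgroup.upperCentralSeries (K.map f) m).comap g ≤ Subgroup.upperCentralSeries K (m + 1) := by
      intro m
      induction m with
      | zero =>
        intro x hx
        rw [Subgroup.upperCentralSeries_one, mem_center_iff]
        have hxW : (x : P) ∈ W := by
          rw [← QuotientGroup.eq_one_iff]
          exact congrArg Subtype.val (mem_bot.1 (mem_comap.1 hx))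
        exact fun y => Subtype.ext (mem_centralizer_iff.1 (hKW y.2) x hxW).symm
      | succ m ihm =>
        intro x hx
        rw [Subgroup.mem_upperCentralSeries_succ_iff]
        intro y
        refine ihm ?_
        rw [mem_comap, map_commutatorElement]
        exact Subgroup.mem_upperCentralSeries_succ_iff.1 (mem_comap.1 hx) (g y)
    refine top_le_iff.1 (le_trans (fun x _ => ?_) (hpull (j + 1)))
    rw [mem_comap, hup]
    exact mem_top _

/-- The lower bound on the class. -/
theorem index_le (hP : IsPGroup p P) {E : Subgroup P} (h : IsSoft p E) {K : Subgroup P} (hEK : E ≤ K)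
    (hKt : K ≠ ⊤) (j : ℕ) :
    E.index ≤ (E ⊔ (Subgroup.upperCentralSeries K (j + 1)).map K.subtype).index * p ^ j := by
  induction j with
  | zero =>
    rw [Subgroup.upperCentralSeries_one, pow_zero, mul_one, sup_eq_left.2]
    rintro _ ⟨z, hz, rfl⟩
    exact h.cent (mem_centralizer_iff.2 fun e he =>
      congrArg Subtype.val (mem_center_iff.1 hz ⟨e, hEK he⟩))
  | succ j IH =>
    set L := E ⊔ (Subgroup.upperCentralSeries K (j + 1)).map K.subtype with hL
    set L' := E ⊔ (Subgroup.upperCentralSeries K (j + 2)).map K.subtype with hL'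
    have hLL' : L ≤ L' := sup_le_sup_left (map_mono (Subgroup.upperCentralSeries_mono K (Nat.le_succ _))) E
    have hLK : L ≤ K := sup_le hEK (map_subtype_le _)
    have hnorm : L' ≤ normalizer (L : Set P) := by
      refine sup_le ((le_sup_left : E ≤ L).trans le_normalizer) ?_
      have key : ∀ z ∈ Subgroup.upperCentralSeries K (j + 2), ∀ l ∈ L, (z : P) * l * (z : P)⁻¹ ∈ L := by
        intro z hz l hl
        have h1 : ⁅(z : P), l⁆ ∈ (Subgroup.upperCentralSeries K (j + 1)).map K.subtype :=
          ⟨⁅z, ⟨l, hLK hl⟩⁆, Subgroup.mem_upperCentralSeries_succ_iff.1 hz _, rfl⟩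
        have h2 := mul_mem ((le_sup_right : _ ≤ L) h1) hl
        rwa [commutatorElement_def, inv_mul_cancel_right] at h2
      rintro _ ⟨z, hz, rfl⟩
      refine mem_normalizer_iff.2 fun l => ⟨key z hz l, fun hl => ?_⟩
      have h3 := key z⁻¹ (inv_mem hz) _ hl
      simpa [mul_assoc] using h3
    have hne : L ≠ ⊤ := fun he => hKt (top_le_iff.1 (he ▸ hLK))
    have hp' := (tower (Nat.card P) P E le_rfl hP h).2.1 L le_sup_left hne
    have h1 := relIndex_mul_index hLL'
    have h2 : L.relIndex L' ≤ p := by
      rw [← hp', ← relIndex_mul_relIndex L L' _ hLL' hnorm]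
      exact Nat.le_mul_of_pos_right _ (Nat.pos_of_ne_zero (by
        intro h0
        exact index_ne_zero_of_finite (H := L'.subgroupOf (normalizer (L : Set P))) h0))
    calc E.index ≤ L.index * p ^ j := IH
      _ = L.relIndex L' * L'.index * p ^ j := by rw [h1]
      _ ≤ p * L'.index * p ^ j := by gcongr
      _ = L'.index * p ^ (j + 1) := by ring

end Cfsg.Agent.Soft
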